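import Cfsg.Agent.H469.RowExc
import Cfsg.Agent.H296.FFourFix
import Cfsg.Agent.EvenType.ChevTwoF4

/-!
# `NB p G` and `²F₄(q)`, `q ≥ 8`

* `exists_fix_inv` : an automorphism `s` with `s² = 1`, `s c = c`, `c` commuting with an element `≠ 1` of `2`-power order :
  `s` fixes an involution commuting with `c`;
* `exists_inv` : a subgroup of order `p²` and exponent `p` of `²F₄(q)` contains an element `≠ 1` commuting with an
  involution;
* `row_twF` : `NB p G`, `G ≅ ²F₄(q)` : Sylow `p`-subgroups are cyclic.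
-/

set_option autoImplicit false

namespace Cfsg.Agent.H469.RowTwF

open Subgroup Cfsg Cfsg.Lie

/-- the fixed points of an involutory map on a set of even cardinality -/
theorem even_fix {α : Type*} [Finite α] (s : α → α) (hs : ∀ x, s (s x) = x) (h : 2 ∣ Nat.card α) :
    2 ∣ Nat.card {x : α // s x = x} := by
  classical
  have : Fintype α := Fintype.ofFinite α
  have : Fact (Nat.Prime 2) := ⟨Nat.prime_two⟩
  have h1 : (show Function.End α from s) ^ 2 ^ 1 = 1 := by
    rw [pow_one, pow_two]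
    funext x
    exact hs x
  have h2 := Equiv.Perm.card_fixedPoints_modEq (f := (show Function.End α from s)) h1
  rw [Nat.card_eq_fintype_card] at h
  have h3 := (h2.dvd_iff (dvd_refl 2)).1 h
  have h4 : Nat.card {x : α // s x = x} = Fintype.card (Function.fixedPoints (show α → α from s)) := by
    rw [Nat.card_eq_fintype_card]
    exact Fintype.card_congr (Equiv.refl _)
  rw [h4]
  convert h3

theorem exists_fix_inv {L : Type*} [Group L] [Finite L] (s : L ≃* L) (hs : ∀ x, s (s x) = x) {c u : L} (hc : s c = c)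
    (hu1 : u ≠ 1) (hu : ∃ j, u ^ 2 ^ j = 1) (hcu : c * u = u * c) :
    ∃ x : L, x ≠ 1 ∧ x * x = 1 ∧ c * x = x * c ∧ s x = x := by
  classical
  let C := centralizer ({c} : Set L)
  have hmem : ∀ x : L, x ∈ C ↔ x * c = c * x := fun x => mem_centralizer_singleton_iff
  have h2C : 2 ∣ Nat.card C := by
    obtain ⟨j, hj⟩ := hu
    have hu' : u ∈ C := (hmem u).2 hcu.symm
    have h1 : orderOf (⟨u, hu'⟩ : C) ∣ 2 ^ j := orderOf_dvd_of_pow_eq_one (Subtype.ext hj)
    obtain ⟨k, -, hk⟩ := (Nat.dvd_prime_pow Nat.prime_two).1 h1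
    have h3 : k ≠ 0 := by
      rintro rfl
      rw [pow_zero, orderOf_eq_one_iff] at hk
      exact hu1 (congrArg Subtype.val hk)
    exact ((dvd_pow_self 2 h3).trans hk.symm.dvd).trans (orderOf_dvd_natCard _)
  have h1 := even_fix (fun x : C => x⁻¹) (fun x => inv_inv x) h2C
  let A := {x : C // x⁻¹ = x}
  have hsC : ∀ x : C, s x ∈ C := by
    intro x
    rw [hmem]
    have h := (hmem x).1 x.2
    calc s x * c = s (x * c) := by rw [map_mul, hc]
      _ = s (c * x) := by rw [h]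
      _ = c * s x := by rw [map_mul, hc]
  let sA : A → A := fun x => ⟨⟨s x.1, hsC x.1⟩, by
    apply Subtype.ext
    change (s (x.1 : L))⁻¹ = s (x.1 : L)
    rw [← map_inv]
    exact congrArg s (congrArg Subtype.val x.2)⟩
  have h2 := even_fix sA (fun x => Subtype.ext (Subtype.ext (hs _))) h1
  have h3 : ∃ x : {x : A // sA x = x}, x ≠ ⟨⟨1, inv_one⟩, Subtype.ext (Subtype.ext (map_one s))⟩ := by
    by_contra hcon
    push Not at hcon
    have : Subsingleton {x : A // sA x = x} := ⟨fun a b => (hcon a).trans (hcon b).symm⟩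
    have h4 : Nat.card {x : A // sA x = x} = 1 :=
      Nat.card_eq_one_iff_unique.2 ⟨this, ⟨⟨⟨1, inv_one⟩, Subtype.ext (Subtype.ext (map_one s))⟩⟩⟩
    rw [h4] at h2
    omega
  obtain ⟨⟨⟨⟨x, hxC⟩, hxi⟩, hxs⟩, hx⟩ := h3
  refine ⟨x, ?_, ?_, ((hmem x).1 hxC).symm, ?_⟩
  · rintro rfl
    exact hx (Subtype.ext (Subtype.ext (Subtype.ext rfl)))
  · have h4 : x⁻¹ = x := congrArg Subtype.val hxi
    calc x * x = x⁻¹ * x := by rw [h4]
      _ = 1 := inv_mul_cancel x
  · exact congrArg (fun y : A => (y.1 : L)) hxs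

section

variable {F : Type} [Field F] [Fintype F] {m : ℕ} (hK : Fintype.card F = 2 ^ (2 * m + 1))

open Cfsg.Agent.H296.FFour in
include hK in
/-- **An element of order `p` commuting with an involution.** -/
theorem exists_inv {p : ℕ} (hp : p.Prime) (hp2 : p ≠ 2) {E : Subgroup ↥(twistedF4 F (2 ^ m))}
    (hE : Nat.card E = p ^ 2) (hcomm : ∀ a ∈ E, ∀ b ∈ E, a * b = b * a) (hexp : ∀ a ∈ E, a ^ p = 1) :
    ∃ c ∈ E, c ≠ 1 ∧ ∃ t : ↥(twistedF4 F (2 ^ m)), t ≠ 1 ∧ t * t = 1 ∧ c * t = t * c := by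
  have : CharP F 2 := Cfsg.Agent.ChevalleyStructure.F4Fixed.charP_two hK
  have : Fact (Nat.Prime 2) := ⟨Nat.prime_two⟩
  have : PerfectRing F 2 := inferInstance
  -- the automorphism
  let τ : F ≃+* F := RingEquiv.ofBijective (iterateFrobenius F 2 m)
    ⟨RingHom.injective _, Finite.injective_iff_surjective.1 (RingHom.injective _)⟩
  have hτ : ∀ a, τ a = a ^ 2 ^ m := fun a => iterateFrobenius_def 2 m a
  let s : ↥(chevF4.group F) ≃* ↥(chevF4.group F) := sg τ
  have hss : ∀ x, s (s x) = x := by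
    have h1 : (sg τ : MulAut ↥(chevF4.group F)) * sg τ = 1 := by
      apply aut_ext4
      intro r hr t
      rw [MulAut.mul_apply, sg_xS τ hr, sg_xS τ (tab r hr).1, (tab r hr).2.1, MulAut.one_apply]
      congr 1
      rw [map_pow, ← pow_mul, (tab r hr).2.2, hτ, hτ, ← pow_mul, ← pow_mul]
      have h2 : 2 ^ m * (2 ^ m * 2) = Fintype.card F := by rw [hK]; ring
      rw [h2]
      exact FiniteField.pow_card t
    intro x
    exact DFunLike.congr_fun h1 x
  -- the embedding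
  have hle : twistedF4 F (2 ^ m) ≤ chevF4.group F := by
    intro g hg
    obtain ⟨a, rfl, -⟩ := le_fix hK hτ hg
    exact a.2
  let ι : ↥(twistedF4 F (2 ^ m)) →* ↥(chevF4.group F) := Subgroup.inclusion hle
  have hι : Function.Injective ι := Subgroup.inclusion_injective hle
  have hfix : ∀ g, s (ι g) = ι g := by
    intro g
    obtain ⟨a, ha, h⟩ := le_fix hK hτ g.2
    have : a = ι g := Subtype.ext ha
    rw [← this]
    exact h
  have hP3 : Exc.P3 2 ↥(chevF4.group F) := Exc.p3_of_chev ⟨F, inferInstance, inferInstance, inferInstance,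
    Or.inr (Or.inl ⟨MulEquiv.refl _⟩)⟩
  obtain ⟨c', ⟨c, hc, rfl⟩, hc1, u, hu1, hu, hcu⟩ := hP3.exists_mem hp hp2 hp2 (E := E.map ι)
    (by rw [card_map_of_injective hι, hE])
    (by
      rintro _ ⟨a, ha, rfl⟩ _ ⟨b, hb, rfl⟩
      rw [← map_mul, hcomm a ha b hb, map_mul])
    (by
      rintro _ ⟨a, ha, rfl⟩
      rw [← map_pow, hexp a ha, map_one])
  obtain ⟨x, hx1, hxx, hcx, hsx⟩ := exists_fix_inv s hss (hfix c) hu1 hu hcu
  obtain ⟨y, rfl⟩ : ∃ y, ι y = x := ⟨⟨(x : GL chevF4.Idx F), fix_le hK hτ hsx⟩, Subtype.ext rfl⟩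
  refine ⟨c, hc, fun h => hc1 (by rw [h, map_one]), y, fun h => hx1 (by rw [h, map_one]), hι ?_, hι ?_⟩
  · rw [map_mul, map_one]
    exact hxx
  · rw [map_mul, map_mul]
    exact hcx

end

open Cfsg.Agent.OddHalf.Small.Crit in
/-- **Involutions of `²F₄(q)`.** -/
theorem good_all {X : Type*} [Group X] [Finite X] (h : Iso2F4 X) {t : X} (ht : orderOf t = 2) : Good t := by
  obtain ⟨F, _, _, m, hm, hK, ⟨e⟩⟩ := h
  obtain ⟨φ, hφ⟩ := Cfsg.Agent.ChevalleyStructure.TwF4.TwistedFix.exists_rln hK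
  have := Cfsg.Agent.ChevalleyStructure.TwF4.Twisted.charP_two hK
  have hfin : Finite ↥(twistedF4 F (2 ^ m)) := inferInstance
  have hF : ∃ c : Fˣ, c ≠ 1 := by
    have h1 : 1 < Nat.card Fˣ := by
      rw [Nat.card_units, Nat.card_eq_fintype_card, hK]
      have : 2 ^ 3 ≤ 2 ^ (2 * m + 1) := Nat.pow_le_pow_right (by norm_num) (by omega)
      omega
    have h2 : Nontrivial Fˣ := Finite.one_lt_card_iff_nontrivial.1 h1
    exact exists_ne 1
  obtain ⟨S, hS⟩ : ∃ S : Cfsg.Agent.KFacts.TwF4.Full φ ↥(twistedF4 F (2 ^ m)), S.R.p = 2 :=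
    ⟨Cfsg.Agent.KFacts.TwF4.Inst.full hK hφ, rfl⟩
  have h1 := good_map e.symm (Cfsg.Agent.EvenType.ChevTwoF4.good S hF hS (t := e t)
    (by rw [MulEquiv.orderOf_eq, ht]))
  rwa [e.symm_apply_apply] at h1

theorem row_twF {G : Type*} [Group G] [Finite G] [IsSimpleGroup G] (hna : ∃ a b : G, a * b ≠ b * a) {p : ℕ}
    [hp : Fact p.Prime] (hp2 : p ≠ 2) (h : NB p G) (hG : Iso2F4 G) (P : Sylow p G) : IsCyclic (P : Subgroup G) := by
  by_contra hnc
  obtain ⟨E, -, hE, hcomm, hexp⟩ := exists_sq hp2 P.isPGroup' hnc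
  have hgood := fun {t : G} (ht : orderOf t = 2) => good_all hG ht
  obtain ⟨F, _, _, m, hm, hK, ⟨e⟩⟩ := hG
  obtain ⟨_, ⟨c, hc, rfl⟩, hc1, t, ht1, htt, hct⟩ := exists_inv hK hp.out hp2 (E := E.map e.toMonoidHom)
    (by rw [card_map_of_injective e.injective, hE])
    (by
      rintro _ ⟨a, ha, rfl⟩ _ ⟨b, hb, rfl⟩
      rw [← map_mul, hcomm a ha b hb, map_mul])
    (by
      rintro _ ⟨a, ha, rfl⟩
      rw [← map_pow, hexp a ha, map_one])
  have hct' : c * e.symm t = e.symm t * c := by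
    apply e.injective
    rw [map_mul, map_mul, e.apply_symm_apply]
    exact hct
  have ht2 : orderOf (e.symm t) = 2 := by
    rw [MulEquiv.orderOf_eq]
    exact orderOf_eq_prime (by rw [pow_two, htt]) ht1
  obtain ⟨Q, hQ, hQn, hQc⟩ := hgood ht2
  have : Fact (Nat.Prime 2) := ⟨Nat.prime_two⟩
  have h1 := h.comm_prime (r := 2) hna hp2.symm (hexp c hc) hQ (hQn c hct')
  apply hc1
  have h2 : c = 1 := by
    refine hQc c hct' (fun x hx => ?_) ?_
    · exact mul_inv_eq_iff_eq_mul.1 (h1 x hx)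
    · exact (hp.out.odd_of_ne_two hp2).of_dvd_nat (orderOf_dvd_of_pow_eq_one (hexp c hc))
  rw [h2, map_one]

end Cfsg.Agent.H469.RowTwF
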