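import Mathlib
import Cfsg.Prelude.Def_LocalStructure
import Cfsg.Prelude.Def_Transfer
import Cfsg.Agent.H469.IrrCyc
import Cfsg.Agent.Lib.PGroupCoprimeAction
import Cfsg.Agent.PLocal.ChiefReduction

/-!
The structure of the minimal groups with a non-central action of a Sylow `p`-subgroup on a normal
`p`-complement.
-/

set_option autoImplicit false

namespace Cfsg.Agent.H469.MinStruct

open Subgroup Cfsg

/-- The order of an abelian group of exponent `q` with an irreducible non-trivial endomorphism of
prime order `p`. -/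
theorem card_eq_pow_of_irreducible {A : Type*} [CommGroup A] [Finite A] {p q : ℕ}
    [hp : Fact p.Prime] [hq : Fact q.Prime] (hpq : q ≠ p) (hA : ∀ a : A, a ^ q = 1)
    (f : A →* A) (hfp : ∀ a, f^[p] a = a) (hne : ∃ a, f a ≠ a)
    (hmin : ∀ B : Subgroup A, (∀ b ∈ B, f b ∈ B) → B = ⊥ ∨ B = ⊤) :
    Nat.card A = q ^ orderOf (q : ZMod p) := by
  have hM : Module (ZMod q) (Additive A) := AddCommGroup.zmodModule (n := q) (by
    intro a
    exact hA (Additive.toMul a))
  obtain ⟨T, hT⟩ : ∃ T : Additive A →ₗ[ZMod q] Additive A,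
      ∀ a : A, T (Additive.ofMul a) = Additive.ofMul (f a) :=
    ⟨(MonoidHom.toAdditive f).toZModLinearMap q, fun a => rfl⟩
  have hTpow : ∀ (n : ℕ) (a : A), (T ^ n) (Additive.ofMul a) = Additive.ofMul (f^[n] a) := by
    intro n
    induction n with
    | zero => intro a; rfl
    | succ n ih =>
      intro a
      rw [pow_succ', Module.End.mul_apply, ih, hT, Function.iterate_succ_apply']
  have hnt : Nontrivial (Additive A) := by
    obtain ⟨a, hne⟩ := hne
    refine ⟨⟨Additive.ofMul a, 0, ?_⟩⟩
    intro h
    apply hne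
    have h1 : a = 1 := Additive.ofMul.injective h
    rw [h1, map_one]
  have hfin : Finite (Additive A) := inferInstanceAs (Finite A)
  have hcard : Nat.card A = Nat.card (Additive A) := rfl
  rw [hcard]
  refine IrrCyc.card_eq_pow hpq T ?_ ?_ ?_
  · apply LinearMap.ext
    intro a
    have := hTpow p (Additive.toMul a)
    rw [hfp] at this
    exact this
  · intro h
    obtain ⟨a, hne⟩ := hne
    apply hne
    have h1 := hT a
    rw [h] at h1
    exact Additive.ofMul.injective h1.symm
  · intro W hW
    have hWsub := hmin (AddSubgroup.toSubgroup' W.toAddSubgroup) (by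
      intro a ha
      have h1 : T (Additive.ofMul a) ∈ W := hW _ ha
      rw [hT] at h1
      exact h1)
    rcases hWsub with h | h
    · left
      rw [eq_bot_iff]
      intro w hw
      have h1 : (Additive.toMul w : A) ∈ (AddSubgroup.toSubgroup' W.toAddSubgroup) := hw
      rw [h, mem_bot] at h1
      rw [Submodule.mem_bot]
      exact Additive.toMul.injective h1
    · right
      rw [eq_top_iff]
      intro w _
      have h1 : (Additive.toMul w : A) ∈ (AddSubgroup.toSubgroup' W.toAddSubgroup) := by
        rw [h]; exact mem_top _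
      exact h1

variable {G : Type*} [Group G]

/-- The order of an elementary abelian `q`-group on which an element of prime order `p` acts
irreducibly and non-trivially. -/
theorem card_eq_pow [Finite G] {p q : ℕ} [hp : Fact p.Prime] [hq : Fact q.Prime] (hpq : q ≠ p)
    (A : Subgroup G) (hA : Cfsg.IsElementaryAbelian q A) (x : G) (hxp : x ^ p = 1)
    (hxA : ∀ a ∈ A, x * a * x⁻¹ ∈ A) (hx : ∃ a ∈ A, x * a * x⁻¹ ≠ a)
    (hmin : ∀ B : Subgroup G, B ≤ A → (∀ b ∈ B, x * b * x⁻¹ ∈ B) → B = ⊥ ∨ B = A) :
    Nat.card A = q ^ orderOf (q : ZMod p) := by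
  let I : CommGroup A := { (inferInstance : Group A) with mul_comm := hA.1.is_comm.comm }
  let f : A →* A :=
    { toFun := fun a => ⟨x * (a : G) * x⁻¹, hxA _ a.2⟩
      map_one' := by
        apply Subtype.ext
        change x * (1 : G) * x⁻¹ = 1
        rw [mul_one, mul_inv_cancel]
      map_mul' := by
        intro a b
        apply Subtype.ext
        change x * ((a : G) * (b : G)) * x⁻¹ = (x * (a : G) * x⁻¹) * (x * (b : G) * x⁻¹)
        group }
  have hf : ∀ (n : ℕ) (a : A), ((f^[n] a : A) : G) = x ^ n * (a : G) * (x ^ n)⁻¹ := by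
    intro n
    induction n with
    | zero => intro a; simp
    | succ n ih =>
      intro a
      rw [Function.iterate_succ_apply']
      change x * ((f^[n] a : A) : G) * x⁻¹ = _
      rw [ih, pow_succ']
      group
  refine @card_eq_pow_of_irreducible A I _ p q hp hq hpq (fun a => Subtype.ext (hA.2 _ a.2)) f ?_ ?_ ?_
  · intro a
    apply Subtype.ext
    rw [hf, hxp, one_mul, inv_one, mul_one]
  · obtain ⟨a, ha, hne⟩ := hx
    exact ⟨⟨a, ha⟩, fun h => hne (congrArg Subtype.val h)⟩
  · intro B hB
    rcases hmin (B.map A.subtype) (by rintro _ ⟨a, -, rfl⟩; exact a.2) (by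
      rintro _ ⟨a, ha, rfl⟩
      exact ⟨_, hB _ ha, rfl⟩) with h | h
    · left
      exact (Subgroup.map_eq_bot_iff_of_injective _ A.subtype_injective).mp h
    · right
      apply Subgroup.map_injective A.subtype_injective
      rw [h, ← MonoidHom.range_eq_map, Subgroup.range_subtype]

/-- A product of a normal subgroup and a disjoint subgroup covering the group. -/
theorem card_mul_of_sup [Finite G] {N R : Subgroup G} [hN : N.Normal] (h : R ⊔ N = ⊤)
    (hd : Disjoint R N) : Nat.card R * Nat.card N = Nat.card G := by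
  refine IsComplement'.card_mul_card ?_
  refine isComplement'_of_disjoint_and_mul_eq_univ hd ?_
  rw [← Subgroup.mul_normal, h, coe_top]

theorem disjoint_of_isPGroup [Finite G] {p : ℕ} [hp : Fact p.Prime] {N R : Subgroup G}
    (hNp : ¬ p ∣ Nat.card N) (hR : IsPGroup p R) : Disjoint R N := by
  rw [disjoint_iff]
  have h1 : IsPGroup p (R ⊓ N : Subgroup G) := hR.to_le inf_le_left
  by_contra hne
  have hnt : Nontrivial (R ⊓ N : Subgroup G) := (Subgroup.nontrivial_iff_ne_bot _).mpr hne
  obtain ⟨n, hn0, hn⟩ := (IsPGroup.nontrivial_iff_card h1).mp hnt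
  apply hNp
  have h2 : p ∣ Nat.card (R ⊓ N : Subgroup G) := by rw [hn]; exact dvd_pow_self p hn0.ne'
  exact h2.trans (Subgroup.card_dvd_of_le inf_le_right)

/-- The structure of the minimal groups with a non-central action of a `p`-group on a normal
`p'`-subgroup. -/
theorem structure_of_minimal [Finite G] {p : ℕ} [hp : Fact p.Prime] (N P : Subgroup G) [hN : N.Normal]
    (hNp : ¬ p ∣ Nat.card N) (hP : IsPGroup p P) (hNP : N ⊔ P = ⊤)
    (hOp : ∀ R : Subgroup G, R.Normal → IsPGroup p R → R = ⊥) (hP1 : P ≠ ⊥)
    (hmin : ∀ B : Subgroup G, B.Normal → B ≤ N → B = ⊥ ∨ B = N)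
    (H : ∀ R Q : Subgroup G, IsPGroup p R → Q ≤ N → (∀ r ∈ R, ∀ u ∈ Q, r * u * r⁻¹ ∈ Q) →
      R ⊔ Q ≠ ⊤ → ∀ r ∈ R, ∀ u ∈ Q, r * u * r⁻¹ = u) :
    ∃ q : ℕ, q.Prime ∧ q ≠ p ∧ Nat.card G = p * q ^ orderOf (q : ZMod p) ∧
      Nat.card N = q ^ orderOf (q : ZMod p) ∧ Cfsg.IsElementaryAbelian q N := by
  have hPN : ∀ r ∈ P, ∀ u ∈ N, r * u * r⁻¹ ∈ N := fun r _ u hu => hN.conj_mem u hu r
  -- a subgroup normalized by `P` and by `N` is normal
  have hnorm : ∀ B : Subgroup G, (∀ r ∈ P, ∀ u ∈ B, r * u * r⁻¹ ∈ B) →
      (∀ r ∈ N, ∀ u ∈ B, r * u * r⁻¹ ∈ B) → B.Normal := by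
    intro B h1 h2
    rw [← normalizer_eq_top_iff, eq_top_iff, ← hNP, sup_le_iff]
    constructor
    · intro r hr
      rw [mem_normalizer_iff]
      intro u
      refine ⟨fun hu => h2 r hr u hu, fun hu => ?_⟩
      have := h2 r⁻¹ (N.inv_mem hr) _ hu
      group at this
      exact this
    · intro r hr
      rw [mem_normalizer_iff]
      intro u
      refine ⟨fun hu => h1 r hr u hu, fun hu => ?_⟩
      have := h1 r⁻¹ (P.inv_mem hr) _ hu
      group at this
      exact this
  -- `P` does not centralize `N`
  have hnc : ¬ ∀ r ∈ P, ∀ u ∈ N, r * u * r⁻¹ = u := by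
    intro hc
    apply hP1
    refine hOp P ?_ hP
    refine hnorm P (fun r hr u hu => P.mul_mem (P.mul_mem hr hu) (P.inv_mem hr)) ?_
    intro r hr u hu
    have h1 := hc u hu r hr
    have h2 : r * u * r⁻¹ = u := by
      have h3 : u * r = r * u := by
        rw [mul_inv_eq_iff_eq_mul] at h1
        exact h1
      rw [← h3, mul_inv_cancel_right]
    rw [h2]
    exact hu
  -- a Sylow subgroup of `N` on which `P` acts nontrivially
  obtain ⟨q, hq, S, hSN, hPS, hSp, hSnc⟩ : ∃ q : ℕ, q.Prime ∧ ∃ S : Subgroup G, S ≤ N ∧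
      (∀ r ∈ P, ∀ u ∈ S, r * u * r⁻¹ ∈ S) ∧ IsPGroup q S ∧ ¬ ∀ r ∈ P, ∀ u ∈ S, r * u * r⁻¹ = u := by
    by_contra hcon
    push Not at hcon
    apply hnc
    have hle : N ≤ centralizer (P : Set G) := by
      have hcard : Nat.card N ∣ Nat.card (N ⊓ centralizer (P : Set G) : Subgroup G) := by
        rw [← Nat.factorization_prime_le_iff_dvd Nat.card_pos.ne' Nat.card_pos.ne']
        intro q hq
        have hqF : Fact q.Prime := ⟨hq⟩
        obtain ⟨S, ⟨T, hT⟩, hPS⟩ := Lib.PGroupCoprimeAction.exists_invariant_sylow hP hNp hPN q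
        have hSN : S ≤ N := by rw [← hT]; exact Subgroup.map_subtype_le _
        have hSq : IsPGroup q S := by rw [← hT]; exact T.isPGroup'.map _
        have hc := hcon q hq S hSN hPS hSq
        have hSC : S ≤ N ⊓ centralizer (P : Set G) := by
          refine le_inf hSN ?_
          intro u hu
          rw [mem_centralizer_iff]
          intro r hr
          have := hc r hr u hu
          rw [mul_inv_eq_iff_eq_mul] at this
          exact this
        have hScard : Nat.card S = q ^ (Nat.card N).factorization q := by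
          rw [← hT, Subgroup.card_map_of_injective N.subtype_injective, T.card_eq_multiplicity]
        have h1 : q ^ (Nat.card N).factorization q ∣
            Nat.card (N ⊓ centralizer (P : Set G) : Subgroup G) := by
          rw [← hScard]
          exact Subgroup.card_dvd_of_le hSC
        exact (hq.pow_dvd_iff_le_factorization Nat.card_pos.ne').mp h1
      have hle2 : Nat.card N ≤ Nat.card (N ⊓ centralizer (P : Set G) : Subgroup G) :=
        Nat.le_of_dvd Nat.card_pos hcard
      have heq : (N ⊓ centralizer (P : Set G) : Subgroup G) = N :=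
        Subgroup.eq_of_le_of_card_ge inf_le_left hle2
      exact inf_eq_left.mp heq
    intro r hr u hu
    have := mem_centralizer_iff.mp (hle hu) r hr
    rw [mul_inv_eq_iff_eq_mul]
    exact this
  have hqF : Fact q.Prime := ⟨hq⟩
  -- `N` is this Sylow subgroup
  have hPStop : P ⊔ S = ⊤ := by
    by_contra hne
    exact hSnc (H P S hP hSN hPS hne)
  have hSnormal : S.Normal := by
    rw [← normalizer_eq_top_iff, eq_top_iff, ← hPStop, sup_le_iff]
    refine ⟨?_, le_normalizer⟩
    intro r hr
    rw [mem_normalizer_iff]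
    intro u
    refine ⟨fun hu => hPS r hr u hu, fun hu => ?_⟩
    have := hPS r⁻¹ (P.inv_mem hr) _ hu
    group at this
    exact this
  have hSN' : S = N := by
    rcases hmin S hSnormal hSN with h | h
    · exfalso
      apply hSnc
      intro r _ u hu
      rw [h, mem_bot] at hu
      rw [hu, mul_one, mul_inv_cancel]
    · exact h
  subst hSN'
  have hqp : q ≠ p := by
    rintro rfl
    apply hSnc
    intro r _ u hu
    have hbot : S = ⊥ := hOp S hSnormal hSp
    rw [hbot, mem_bot] at hu
    rw [hu, mul_one, mul_inv_cancel]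
  have hel : Cfsg.IsElementaryAbelian q S :=
    PLocal.ChiefReduction.isElementaryAbelian_of_minimal hSnormal hSp hmin
  -- an element of `P` acting nontrivially
  obtain ⟨x, hxP, hxS⟩ : ∃ x ∈ P, ∃ u ∈ S, x * u * x⁻¹ ≠ u := by
    by_contra hcon
    push Not at hcon
    exact hSnc hcon
  have hgen : ∀ y ∈ P, (∃ u ∈ S, y * u * y⁻¹ ≠ u) → zpowers y ⊔ S = ⊤ := by
    intro y hy ⟨u, hu, hne⟩
    by_contra hcon
    refine hne (H (zpowers y) S (hP.to_le ?_) le_rfl ?_ hcon y (mem_zpowers y) u hu)
    · rw [zpowers_le]; exact hy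
    · intro r _ u hu
      exact hSnormal.conj_mem u hu r
  have hpz : ∀ y ∈ P, IsPGroup p (zpowers y) := fun y hy =>
    hP.to_le (by rw [zpowers_le]; exact hy)
  have hcardx : ∀ y ∈ P, (∃ u ∈ S, y * u * y⁻¹ ≠ u) → orderOf y * Nat.card S = Nat.card G := by
    intro y hy hne
    rw [← Nat.card_zpowers]
    exact card_mul_of_sup (hgen y hy hne) (disjoint_of_isPGroup hNp (hpz y hy))
  have hx1 : x ≠ 1 := by
    rintro rfl
    obtain ⟨u, _, hne⟩ := hxS
    apply hne
    group
  have hxp : x ^ p = 1 := by
    by_cases hc : ∃ u ∈ S, x ^ p * u * (x ^ p)⁻¹ ≠ u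
    · exfalso
      have h1 := hcardx (x ^ p) (P.pow_mem hxP p) hc
      have h2 := hcardx x hxP hxS
      rw [← h2] at h1
      have h3 : orderOf (x ^ p) = orderOf x := Nat.eq_of_mul_eq_mul_right Nat.card_pos h1
      obtain ⟨k, hk⟩ := (IsPGroup.iff_orderOf.mp hP) ⟨x, hxP⟩
      rw [Subgroup.orderOf_mk] at hk
      have hk0 : k ≠ 0 := by
        rintro rfl
        rw [pow_zero, orderOf_eq_one_iff] at hk
        exact hx1 hk
      have hdvd : p ∣ orderOf x := by rw [hk]; exact dvd_pow_self p hk0
      rw [orderOf_pow_of_dvd hp.out.ne_zero hdvd] at h3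
      have h4 : orderOf x / p < orderOf x := Nat.div_lt_self (orderOf_pos x) hp.out.one_lt
      omega
    · push Not at hc
      have hcent : x ^ p ∈ center G := by
        have hle : (⊤ : Subgroup G) ≤ centralizer {x ^ p} := by
          rw [← hgen x hxP hxS, sup_le_iff]
          constructor
          · rw [zpowers_le, mem_centralizer_singleton_iff]
            exact (Commute.self_pow x p)
          · intro u hu
            rw [mem_centralizer_singleton_iff]
            have := hc u hu
            rw [mul_inv_eq_iff_eq_mul] at this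
            exact this.symm
        rw [mem_center_iff]
        intro g
        exact mem_centralizer_singleton_iff.mp (hle (mem_top g))
      have hnorm' : (zpowers (x ^ p)).Normal := by
        refine ⟨?_⟩
        intro y hy g
        have hyc : y ∈ center G := (zpowers_le.mpr hcent) hy
        rw [mem_center_iff] at hyc
        rw [hyc g, mul_inv_cancel_right]
        exact hy
      have := hOp _ hnorm' (hpz _ (P.pow_mem hxP p))
      rw [zpowers_eq_bot] at this
      exact this
  have hox : orderOf x = p := orderOf_eq_prime hxp hx1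
  have hcardS : Nat.card S = q ^ orderOf (q : ZMod p) := by
    refine card_eq_pow hqp S hel x hxp (fun a ha => hSnormal.conj_mem a ha x) hxS ?_
    intro B hB hxB
    refine hmin B ?_ hB
    rw [← normalizer_eq_top_iff, eq_top_iff, ← hgen x hxP hxS, sup_le_iff]
    constructor
    · rw [zpowers_le, mem_normalizer_iff]
      intro u
      refine ⟨fun hu => hxB u hu, fun hu => ?_⟩
      have hpow : ∀ (n : ℕ) (v : G), v ∈ B → x ^ n * v * (x ^ n)⁻¹ ∈ B := by
        intro n
        induction n with
        | zero => intro v hv; simpa using hv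
        | succ n ih =>
          intro v hv
          have := hxB _ (ih v hv)
          rw [pow_succ']
          group at this ⊢
          exact this
      have h1 := hpow (p - 1) _ hu
      have h2 : x ^ (p - 1) * (x * u * x⁻¹) * (x ^ (p - 1))⁻¹ = u := by
        have h3 : x ^ (p - 1) * x = 1 := by
          rw [← pow_succ, Nat.sub_add_cancel hp.out.one_le, hxp]
        have h4 : x⁻¹ * (x ^ (p - 1))⁻¹ = 1 := by rw [← mul_inv_rev, h3, inv_one]
        calc x ^ (p - 1) * (x * u * x⁻¹) * (x ^ (p - 1))⁻¹
            = (x ^ (p - 1) * x) * u * (x⁻¹ * (x ^ (p - 1))⁻¹) := by group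
          _ = u := by rw [h3, h4, one_mul, mul_one]
      rw [h2] at h1
      exact h1
    · intro s hs
      rw [mem_normalizer_iff]
      intro u
      have hcomm : ∀ u ∈ S, s * u * s⁻¹ = u := by
        intro u hu
        have := hel.1.is_comm.comm ⟨s, hs⟩ ⟨u, hu⟩
        have h2 : s * u = u * s := congrArg Subtype.val this
        rw [h2, mul_inv_cancel_right]
      constructor
      · intro hu
        rw [hcomm u (hB hu)]
        exact hu
      · intro hu
        have h1 : u ∈ S := by
          have := S.mul_mem (S.mul_mem (S.inv_mem hs) (hB hu)) hs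
          group at this
          exact this
        rw [hcomm u h1] at hu
        exact hu
  refine ⟨q, hq, hqp, ?_, hcardS, hel⟩
  rw [← hcardS, ← hcardx x hxP hxS, hox]

end Cfsg.Agent.H469.MinStruct
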