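import Mathlib
import Cfsg.Agent.H469.NB
import Cfsg.Agent.S0126
import Cfsg.Agent.Solvable.FpfCyclic

/-!
# The property `NBr p G`

`NBr p G` : every element `a` with `a ^ p = 1` normalising an `r`-subgroup, `r ≠ p` a prime, centralises it.

* `NBr.of_nb` : `G` simple non-abelian with `NB p G`;
* `NBr.of_quot` : from `G ⧸ N`, `N` central;
* `NBr.of_hom` : from a subgroup;
* `NBr.normal` : from a normal subgroup `N`, for elements `a ∈ N` and `r`-subgroups of `G`;
* `exists_sq` : a non-cyclic `p`-group, `p` odd, contains commuting `a, b` with `a ^ p = b ^ p = 1`, `b ∉ ⟨a⟩`;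
* `exists_fix` : a non-cyclic commutative `A` acting non-trivially on an additive group `V`, `x ^ p = 1` in `A`, `p` invertible on `V`:
  some `a ≠ 1` fixes some `v` not fixed by `A`.
-/

set_option autoImplicit false

namespace Cfsg.Agent.H469

open Subgroup

/-- every element `a` with `a ^ p = 1` normalising an `r`-subgroup, `r ≠ p` a prime, centralises it -/
def NBr (p : ℕ) (G : Type*) [Group G] : Prop :=
  ∀ r : ℕ, r.Prime → r ≠ p → ∀ a : G, a ^ p = 1 → ∀ V : Subgroup G, IsPGroup r V →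
    (∀ v ∈ V, a * v * a⁻¹ ∈ V) → ∀ v ∈ V, a * v * a⁻¹ = v

theorem NBr.of_nb {G : Type*} [Group G] [Finite G] [IsSimpleGroup G] (hna : ∃ a b : G, a * b ≠ b * a)
    {p : ℕ} [Fact p.Prime] (h : NB p G) : NBr p G := by
  intro r hr hrp a ha V hV haV
  have : Fact r.Prime := ⟨hr⟩
  exact h.comm_prime hna hrp ha hV haV

/-- the basic computation: `a` commutes with `y = [a, x]`, `y` of `r`-power order, `a ^ p = 1` -/
theorem comm_aux {G : Type*} [Group G] {p r : ℕ} (hp : p.Prime) (hr : r.Prime) (hrp : r ≠ p) {a x y : G}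
    (ha : a ^ p = 1) (hy : a * x * a⁻¹ = y * x) (hay : a * y = y * a) {k : ℕ} (hyr : y ^ r ^ k = 1) :
    y = 1 := by
  have h1 : ∀ n : ℕ, a ^ n * x * (a ^ n)⁻¹ = y ^ n * x := by
    intro n
    induction n with
    | zero => simp
    | succ n ih =>
      have h2 : a ^ (n + 1) * x * (a ^ (n + 1))⁻¹ = a * (a ^ n * x * (a ^ n)⁻¹) * a⁻¹ := by
        rw [pow_succ']
        group
      have h3 : a * y ^ n = y ^ n * a := (Commute.pow_right (show Commute a y from hay) n).eq
      rw [h2, ih]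
      calc a * (y ^ n * x) * a⁻¹ = (a * y ^ n) * x * a⁻¹ := by group
        _ = y ^ n * (a * x * a⁻¹) := by rw [h3]; group
        _ = y ^ (n + 1) * x := by rw [hy, pow_succ]; group
  have h4 := h1 p
  rw [ha, one_mul, inv_one, mul_one] at h4
  have h5 : y ^ p = 1 := by
    have := congrArg (fun z => z * x⁻¹) h4
    simpa using this.symm
  have h6 : Nat.gcd p (r ^ k) = 1 := by
    apply Nat.Coprime.pow_right
    exact (Nat.coprime_primes hp hr).mpr (Ne.symm hrp)
  have h7 : orderOf y ∣ Nat.gcd p (r ^ k) := Nat.dvd_gcd (orderOf_dvd_of_pow_eq_one h5)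
    (orderOf_dvd_of_pow_eq_one hyr)
  rw [h6, Nat.dvd_one, orderOf_eq_one_iff] at h7
  exact h7

theorem isPGroup_pow {G : Type*} [Group G] {r : ℕ} {V : Subgroup G} (hV : IsPGroup r V) {v : G} (hv : v ∈ V) :
    ∃ k : ℕ, v ^ r ^ k = 1 := by
  obtain ⟨k, hk⟩ := hV ⟨v, hv⟩
  exact ⟨k, congrArg Subtype.val hk⟩

/-- `NBr` lifts through a central quotient. -/
theorem NBr.of_quot {G : Type*} [Group G] (N : Subgroup G) [N.Normal] (hN : N ≤ center G) {p : ℕ} (hp : p.Prime)
    (h : NBr p (G ⧸ N)) : NBr p G := by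
  intro r hr hrp a ha V hV haV v hv
  have h1 := h r hr hrp (QuotientGroup.mk' N a) (by rw [← map_pow, ha, map_one]) (V.map (QuotientGroup.mk' N))
    (hV.map _) (by
      rintro _ ⟨w, hw, rfl⟩
      exact ⟨a * w * a⁻¹, haV w hw, by simp⟩) (QuotientGroup.mk' N v) ⟨v, hv, rfl⟩
  have h2 : a * v * a⁻¹ * v⁻¹ ∈ N := by
    rw [← QuotientGroup.ker_mk' N, MonoidHom.mem_ker, map_mul, map_mul, map_mul, map_inv, map_inv, h1,
      mul_inv_cancel]
  have h3 : a * v * a⁻¹ * v⁻¹ ∈ V := V.mul_mem (haV v hv) (V.inv_mem hv)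
  obtain ⟨k, hk⟩ := isPGroup_pow hV h3
  have h4 : a * v * a⁻¹ * v⁻¹ = 1 := comm_aux (x := v) hp hr hrp ha (by group)
    ((mem_center_iff.mp (hN h2)) a) hk
  exact mul_inv_eq_one.mp h4

/-- `NBr` passes to groups embedded in `G`. -/
theorem NBr.of_hom {G : Type*} [Group G] {H : Type*} [Group H] {p : ℕ} (h : NBr p G) (f : H →* G)
    (hf : Function.Injective f) : NBr p H := by
  intro r hr hrp a ha V hV haV v hv
  have h1 := h r hr hrp (f a) (by rw [← map_pow, ha, map_one]) (V.map f) (hV.map f) (by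
      rintro _ ⟨w, hw, rfl⟩
      exact ⟨a * w * a⁻¹, haV w hw, by simp⟩) (f v) ⟨v, hv, rfl⟩
  apply hf
  simpa using h1

/-- Elements of a normal subgroup with `NBr`. -/
theorem NBr.normal {G : Type*} [Group G] (N : Subgroup G) [hN : N.Normal] {p : ℕ} (hp : p.Prime) (h : NBr p N)
    {r : ℕ} (hr : r.Prime) (hrp : r ≠ p) {a : G} (haN : a ∈ N) (ha : a ^ p = 1) {V : Subgroup G}
    (hV : IsPGroup r V) (haV : ∀ v ∈ V, a * v * a⁻¹ ∈ V) : ∀ v ∈ V, a * v * a⁻¹ = v := by
  intro v hv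
  have h3 : a * v * a⁻¹ * v⁻¹ ∈ V := V.mul_mem (haV v hv) (V.inv_mem hv)
  have h4 : a * v * a⁻¹ * v⁻¹ ∈ N := by
    have : a * v * a⁻¹ * v⁻¹ = a * (v * a⁻¹ * v⁻¹) := by group
    rw [this]
    exact N.mul_mem haN (hN.conj_mem _ (N.inv_mem haN) v)
  obtain ⟨k, hk⟩ := isPGroup_pow hV h3
  have h5 := h r hr hrp ⟨a, haN⟩ (Subtype.ext ha) (V.subgroupOf N)
    (hV.comap_of_injective N.subtype N.subtype_injective) (by
      intro w hw
      rw [mem_subgroupOf] at hw ⊢
      exact haV _ hw) ⟨_, h4⟩ (by rw [mem_subgroupOf]; exact h3)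
  have h6 : a * (a * v * a⁻¹ * v⁻¹) * a⁻¹ = a * v * a⁻¹ * v⁻¹ := congrArg Subtype.val h5
  have h7 : a * v * a⁻¹ * v⁻¹ = 1 := comm_aux (x := v) hp hr hrp ha (by group)
    (mul_inv_eq_iff_eq_mul.mp h6) hk
  exact mul_inv_eq_one.mp h7

/-- Elements of a subgroup `N` with `NBr` normalised by `I`. -/
theorem NBr.normal' {G : Type*} [Group G] {N I : Subgroup G} (hNI : ∀ g ∈ I, ∀ n ∈ N, g * n * g⁻¹ ∈ N) {p : ℕ}
    (hp : p.Prime) (h : NBr p N) {r : ℕ} (hr : r.Prime) (hrp : r ≠ p) {a : G} (haN : a ∈ N) (ha : a ^ p = 1)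
    {V : Subgroup G} (hVI : V ≤ I) (hV : IsPGroup r V) (haV : ∀ v ∈ V, a * v * a⁻¹ ∈ V) :
    ∀ v ∈ V, a * v * a⁻¹ = v := by
  intro v hv
  have h3 : a * v * a⁻¹ * v⁻¹ ∈ V := V.mul_mem (haV v hv) (V.inv_mem hv)
  have h4 : a * v * a⁻¹ * v⁻¹ ∈ N := by
    have : a * v * a⁻¹ * v⁻¹ = a * (v * a⁻¹ * v⁻¹) := by group
    rw [this]
    exact N.mul_mem haN (hNI v (hVI hv) _ (N.inv_mem haN))
  obtain ⟨k, hk⟩ := isPGroup_pow hV h3
  have h5 := h r hr hrp ⟨a, haN⟩ (Subtype.ext ha) (V.subgroupOf N)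
    (hV.comap_of_injective N.subtype N.subtype_injective) (by
      intro w hw
      rw [mem_subgroupOf] at hw ⊢
      exact haV _ hw) ⟨_, h4⟩ (by rw [mem_subgroupOf]; exact h3)
  have h6 : a * (a * v * a⁻¹ * v⁻¹) * a⁻¹ = a * v * a⁻¹ * v⁻¹ := congrArg Subtype.val h5
  have h7 : a * v * a⁻¹ * v⁻¹ = 1 := comm_aux (x := v) hp hr hrp ha (by group)
    (mul_inv_eq_iff_eq_mul.mp h6) hk
  exact mul_inv_eq_one.mp h7

/-- If the `p`-subgroups of a group mapping onto `G` are cyclic, so are those of `G`. -/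
theorem isCyclic_of_surj {G : Type*} [Group G] {H : Type*} [Group H] [Finite H] {p : ℕ} [Fact p.Prime]
    (f : H →* G) (hf : Function.Surjective f) (h : ∀ P : Subgroup H, IsPGroup p P → IsCyclic P) (P : Subgroup G)
    (hP : IsPGroup p P) : IsCyclic P := by
  let f' : P.comap f →* P := f.subgroupComap P
  have hf' : Function.Surjective f' := by
    rintro ⟨y, hy⟩
    obtain ⟨x, rfl⟩ := hf y
    exact ⟨⟨x, hy⟩, rfl⟩
  obtain ⟨Q⟩ : Nonempty (Sylow p (P.comap f)) := inferInstance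
  have : Finite P := Finite.of_surjective f' hf'
  have h1 : ((Q.mapSurjective hf' : Sylow p P) : Subgroup P) = ⊤ := by
    have h2 : IsPGroup p (⊤ : Subgroup P) := hP.of_equiv Subgroup.topEquiv.symm
    exact ((Q.mapSurjective hf').is_maximal' h2 le_top).symm
  have h3 : IsCyclic (Q : Subgroup (P.comap f)) := by
    have h4 := h ((Q : Subgroup (P.comap f)).map (P.comap f).subtype) (Q.isPGroup'.map _)
    exact isCyclic_of_injective ((Q : Subgroup (P.comap f)).equivMapOfInjective _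
      (P.comap f).subtype_injective).toMonoidHom (MulEquiv.injective _)
  have h5 : (Q : Subgroup (P.comap f)).map f' = ⊤ := h1
  have h6 : IsCyclic ((Q : Subgroup (P.comap f)).map f') :=
    isCyclic_of_surjective (f'.subgroupMap (Q : Subgroup (P.comap f))) (f'.subgroupMap_surjective _)
  rw [h5] at h6
  exact isCyclic_of_surjective (Subgroup.topEquiv (G := P)).toMonoidHom (MulEquiv.surjective _)

/-- A non-cyclic `p`-group, `p` odd, contains a subgroup of order `p ^ 2` and exponent `p`. -/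
theorem exists_sq {G : Type*} [Group G] {p : ℕ} [hp : Fact p.Prime] (hp2 : p ≠ 2) {P : Subgroup G} [Finite P]
    (hP : IsPGroup p P) (hnc : ¬ IsCyclic P) : ∃ A : Subgroup G, A ≤ P ∧ Nat.card A = p ^ 2 ∧
      (∀ a ∈ A, ∀ b ∈ A, a * b = b * a) ∧ ∀ a ∈ A, a ^ p = 1 := by
  obtain ⟨A, -, ⟨hA1, hA2⟩, hA3⟩ := Cfsg.Agent.S0126.result hp2 hP hnc
  refine ⟨A.map P.subtype, ?_, ?_, ?_, ?_⟩
  · rintro _ ⟨a, -, rfl⟩; exact a.2
  · rw [card_map_of_injective P.subtype_injective, hA3]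
  · rintro _ ⟨a, ha, rfl⟩ _ ⟨b, hb, rfl⟩
    have h1 : a * b = b * a := congrArg Subtype.val (hA1.is_comm.comm (⟨a, ha⟩ : A) ⟨b, hb⟩)
    exact congrArg P.subtype h1
  · rintro _ ⟨a, ha, rfl⟩
    exact congrArg P.subtype (hA2 a ha)

/-- A subgroup of order `p ^ 2` and exponent `p` is not cyclic. -/
theorem not_isCyclic_of_sq {G : Type*} [Group G] {p : ℕ} (hp : p.Prime) {A : Subgroup G} (hA : Nat.card A = p ^ 2)
    (h : ∀ a ∈ A, a ^ p = 1) : ¬ IsCyclic A := by
  intro hc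
  obtain ⟨g, hg⟩ := hc.exists_generator
  have h1 : orderOf g = Nat.card A := orderOf_eq_card_of_forall_mem_zpowers hg
  have h2 : g ^ p = 1 := Subtype.ext (h g g.2)
  have h3 : orderOf g ∣ p := orderOf_dvd_of_pow_eq_one h2
  rw [h1, hA] at h3
  have h4 := Nat.le_of_dvd hp.pos h3
  have h5 := hp.one_lt
  nlinarith

/-- Some `a ≠ 1` fixes a `v` which is not fixed by `A`. -/
theorem exists_fix {A V : Type*} [Group A] [Finite A] (hA : ∀ a b : A, a * b = b * a) (hnc : ¬ IsCyclic A)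
    [AddCommGroup V] [Finite V] (φ : A →* AddMonoid.End V) {p : ℕ} (hexp : ∀ a : A, a ^ p = 1)
    (hpV : ∀ v : V, p • v = 0 → v = 0) (hne : ∃ a v, φ a v ≠ v) : ∃ a v b, a ≠ 1 ∧ φ a v = v ∧ φ b v ≠ v := by
  by_contra hcon
  push Not at hcon
  -- the fixed points of `A`
  let V0 : AddSubgroup V :=
    { carrier := {v | ∀ a, φ a v = v}
      add_mem' := fun {u v} hu hv a => by rw [map_add, hu a, hv a]
      zero_mem' := fun a => map_zero _
      neg_mem' := fun {u} hu a => by rw [map_neg, hu a] }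
  have hV0 : ∀ v, v ∈ V0 ↔ ∀ a, φ a v = v := fun v => Iff.rfl
  have hst : ∀ a : A, V0 ≤ V0.comap (show V →+ V from φ a) := by
    intro a v hv
    change φ a v ∈ V0
    rw [hV0]
    intro b
    have h1 : φ b (φ a v) = φ (b * a) v := by rw [map_mul]; rfl
    rw [h1, hv, ]
    exact (hv a).symm
  have hnt : Nontrivial (V ⧸ V0) := by
    obtain ⟨a, v, hav⟩ := hne
    refine ⟨⟨(v : V ⧸ V0), 0, ?_⟩⟩
    intro h0
    rw [QuotientAddGroup.eq_zero_iff] at h0
    exact hav (h0 a)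
  let ψ : A →* AddMonoid.End (V ⧸ V0) :=
    { toFun := fun a => QuotientAddGroup.map V0 V0 (show V →+ V from φ a) (hst a)
      map_one' := by
        apply AddMonoidHom.ext
        intro v
        obtain ⟨v, rfl⟩ := QuotientAddGroup.mk_surjective v
        change ((φ 1 v : V) : V ⧸ V0) = (v : V ⧸ V0)
        rw [map_one]
        rfl
      map_mul' := fun a b => by
        apply AddMonoidHom.ext
        intro v
        obtain ⟨v, rfl⟩ := QuotientAddGroup.mk_surjective v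
        change ((φ (a * b) v : V) : V ⧸ V0) = ((φ a (φ b v) : V) : V ⧸ V0)
        rw [map_mul]
        rfl }
  have hψ : ∀ (a : A) (v : V), ψ a (v : V ⧸ V0) = ((φ a v : V) : V ⧸ V0) := fun a v => rfl
  apply hnc
  refine Cfsg.Agent.Solvable.FpfCyclic.isCyclic_of_fpf_add hA ψ ?_
  intro a ha w hw
  obtain ⟨v, rfl⟩ := QuotientAddGroup.mk_surjective w
  rw [hψ] at hw
  have h1 : φ a v - v ∈ V0 := by
    rw [← QuotientAddGroup.eq_zero_iff, QuotientAddGroup.mk_sub, hw, sub_self]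
  set u := φ a v - v with hu
  have h2 : ∀ n : ℕ, φ (a ^ n) v = v + n • u := by
    intro n
    induction n with
    | zero => simp
    | succ n ih =>
      have h3 : φ (a ^ (n + 1)) v = φ a (φ (a ^ n) v) := by rw [pow_succ', map_mul]; rfl
      rw [h3, ih, map_add, map_nsmul, h1 a, succ_nsmul]
      have h4 : φ a v = v + u := by rw [hu]; abel
      rw [h4]
      abel
  have h5 := h2 p
  rw [hexp, map_one] at h5
  have h6 : p • u = 0 := by
    have : v = v + p • u := h5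
    simpa using this.symm
  have h7 : φ a v = v := by
    have := hpV u h6
    rw [hu] at this
    exact sub_eq_zero.mp this
  rw [QuotientAddGroup.eq_zero_iff]
  intro b
  by_contra hb
  exact hb (hcon a v b ha h7)

end Cfsg.Agent.H469
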