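import Mathlib
import Cfsg.Agent.H469.NBr

/-!
# `NB p G` for alternating groups

`isCyclic_of_card` : the Sylow `p`-subgroups are cyclic if `p ^ 2 ∤ |G|`;
`row_alt`.
-/

set_option autoImplicit false

namespace Cfsg.Agent.H469

open Subgroup Equiv

/-- The Sylow `p`-subgroups are cyclic if `p ^ 2` does not divide the order. -/
theorem isCyclic_of_card {G : Type*} [Group G] [Finite G] {p : ℕ} [hp : Fact p.Prime] (h : ¬ p ^ 2 ∣ Nat.card G)
    (P : Sylow p G) : IsCyclic (P : Subgroup G) := by
  obtain ⟨n, hn⟩ := IsPGroup.iff_card.mp P.isPGroup'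
  have h1 : p ^ n ∣ Nat.card G := hn ▸ (P : Subgroup G).card_subgroup_dvd_card
  have h2 : n < 2 := by
    by_contra hcon
    exact h ((pow_dvd_pow p (not_lt.mp hcon)).trans h1)
  interval_cases n
  · rw [pow_zero] at hn
    have : Subsingleton (P : Subgroup G) := (Nat.card_eq_one_iff_unique.mp hn).1
    exact isCyclic_of_subsingleton
  · rw [pow_one] at hn
    exact isCyclic_of_prime_card hn

/-- transfer of cyclicity of Sylow subgroups -/
theorem sylow_congr {G : Type*} {H : Type*} [Group G] [Group H] [Finite G] [Finite H] {p : ℕ} [hp : Fact p.Prime]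
    (e : G ≃* H) (h : ∀ P : Sylow p H, IsCyclic (P : Subgroup H)) (P : Sylow p G) : IsCyclic (P : Subgroup G) := by
  have h1 : IsPGroup p ((P : Subgroup G).map e.toMonoidHom) := P.isPGroup'.map _
  obtain ⟨Q, hQ⟩ := h1.exists_le_sylow
  have := h Q
  have h2 : IsCyclic ((P : Subgroup G).map e.toMonoidHom) := by
    exact isCyclic_of_injective (Subgroup.inclusion hQ) (Subgroup.inclusion_injective hQ)
  exact isCyclic_of_injective ((P : Subgroup G).equivMapOfInjective e.toMonoidHom e.injective).toMonoidHom
    (MulEquiv.injective _)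

/-- `A_n → A_{n+1}` -/
def altEmb (n : ℕ) : alternatingGroup (Fin n) →* alternatingGroup (Fin (n + 1)) :=
  ((Perm.extendDomainHom (finSuccAboveEquiv (Fin.last n))).comp (alternatingGroup (Fin n)).subtype).codRestrict
    _ (fun g => by
      rw [Perm.mem_alternatingGroup]
      change Perm.sign (Perm.extendDomain (g : Perm (Fin n)) _) = 1
      rw [Perm.sign_extendDomain]
      exact g.2)

theorem altEmb_injective (n : ℕ) : Function.Injective (altEmb n) := by
  intro a b h
  have h1 : Perm.extendDomainHom (finSuccAboveEquiv (Fin.last n)) (a : Perm (Fin n)) =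
      Perm.extendDomainHom (finSuccAboveEquiv (Fin.last n)) (b : Perm (Fin n)) := congrArg Subtype.val h
  exact Subtype.ext (Perm.extendDomainHom_injective _ h1)

theorem row_alt {G : Type*} [Group G] [Finite G] {p : ℕ} [hp : Fact p.Prime] (hp2 : p ≠ 2) (h : NB p G)
    (hG : Cfsg.IsAlternating G) (P : Sylow p G) : IsCyclic (P : Subgroup G) := by
  obtain ⟨n, hn, ⟨e⟩⟩ := hG
  refine sylow_congr e ?_ P
  have h' := h.congr e
  clear P h e
  have hc : 2 * Nat.card (alternatingGroup (Fin n)) = n.factorial := by
    have hnt : Nontrivial (Fin n) := Fin.nontrivial_iff_two_le.mpr (by omega)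
    rw [two_mul_nat_card_alternatingGroup, Nat.card_perm, Nat.card_eq_fintype_card, Fintype.card_fin]
  by_cases hnp : p < n ∧ 6 ≤ n
  · exfalso
    obtain ⟨m, rfl⟩ : ∃ m, n = m + 1 := ⟨n - 1, by omega⟩
    have hcm : 2 * Nat.card (alternatingGroup (Fin m)) = m.factorial := by
      have hnt : Nontrivial (Fin m) := Fin.nontrivial_iff_two_le.mpr (by omega)
      rw [two_mul_nat_card_alternatingGroup, Nat.card_perm, Nat.card_eq_fintype_card, Fintype.card_fin]
    have hs : IsSimpleGroup (alternatingGroup (Fin m)) := alternatingGroup.isSimpleGroup (by simp; omega)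
    have eK := MonoidHom.ofInjective (altEmb_injective m)
    have hcK : Nat.card (altEmb m).range = Nat.card (alternatingGroup (Fin m)) := (Nat.card_congr eK.toEquiv).symm
    refine h'.not_dvd_of_simple (K := (altEmb m).range) ?_ ?_ ?_ ?_
    · intro htop
      rw [htop, Subgroup.card_top] at hcK
      rw [Nat.factorial_succ, ← hcm] at hc
      have h0 : 0 < Nat.card (alternatingGroup (Fin m)) := Nat.card_pos
      rw [hcK] at hc
      nlinarith
    · exact eK.symm.isSimpleGroup
    · by_contra hcon
      push Not at hcon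
      have h1 : center (alternatingGroup (Fin m)) = ⊥ := alternatingGroup.center_eq_bot (by simp; omega)
      obtain ⟨a, ha⟩ := exists_ne (1 : alternatingGroup (Fin m))
      apply ha
      rw [← mem_bot, ← h1, mem_center_iff]
      intro b
      exact eK.injective (by rw [map_mul, map_mul]; exact hcon _ _)
    · rw [hcK]
      have h1 : p ∣ m.factorial := (hp.out.dvd_factorial).mpr (by omega)
      rw [← hcm] at h1
      refine ((Nat.Coprime.dvd_mul_left ?_).mp h1)
      exact (Nat.coprime_primes hp.out Nat.prime_two).mpr hp2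
  · intro P
    apply isCyclic_of_card
    intro hd
    have h1 : p ^ 2 ∣ n.factorial := hc ▸ (hd.mul_left 2)
    rcases Nat.lt_or_ge p n with h2 | h2
    · have h5 : n = 5 := by omega
      subst h5
      have h3 : p = 3 := by
        have := hp.out
        interval_cases p <;> simp_all (config := {decide := true})
      subst h3
      norm_num [Nat.factorial] at h1
    · have h3 : n.factorial ∣ p.factorial := Nat.factorial_dvd_factorial h2
      have h4 := h1.trans h3
      obtain ⟨k, hk⟩ : ∃ k, p = k + 1 := ⟨p - 1, by have := hp.out.pos; omega⟩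
      rw [hk, Nat.factorial_succ, sq] at h4
      have h5 : k + 1 ∣ k.factorial := Nat.dvd_of_mul_dvd_mul_left (by omega) h4
      rw [← hk, hp.out.dvd_factorial] at h5
      omega

end Cfsg.Agent.H469
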