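import Mathlib
import Cfsg.Agent.H469.NBr
import Cfsg.Agent.LieClassical.SLTwoUnipotent
import Cfsg.Agent.TypeLFive.SLTwoCore
import Cfsg.Agent.ClassicalGeometry.PSL2Basic

/-!
# `NB p G` and subgroups `SL₂(q)`

* `normal_bot` : a normal `p`-subgroup of `SL₂(q)`, `p` odd, `q > 3` or a power of `p`, is trivial;
* `NB.sl_range` : `NB p G`, `p ∣ q (q ^ 2 - 1)` : an injective homomorphism `SL₂(q) → G` is surjective.
-/

set_option autoImplicit false

namespace Cfsg.Agent.H469

open Subgroup Cfsg.Agent.LieClassical.SLTwoUnipotent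

variable {F : Type*} [Field F] [Fintype F]

theorem normal_le_sylow {G : Type*} [Group G] {p : ℕ} (R : Subgroup G) [R.Normal] (hR : IsPGroup p R)
    (P : Sylow p G) : R ≤ P := by
  have h1 : IsPGroup p (R ⊔ (P : Subgroup G) : Subgroup G) := hR.to_sup_of_normal_left P.isPGroup'
  have h2 := P.is_maximal' h1 le_sup_right
  rw [← h2]
  exact le_sup_left

theorem normal_bot {p : ℕ} [hp : Fact p.Prime] (hp2 : p ≠ 2) (h : 3 < Fintype.card F ∨ CharP F p)
    (R : Subgroup (Matrix.SpecialLinearGroup (Fin 2) F)) [hRn : R.Normal] (hR : IsPGroup p R) : R = ⊥ := by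
  rcases h with h | h
  · rcases Cfsg.Agent.TypeLFive.SLTwoCore.normal_cases h R hRn with h1 | h1
    · rw [eq_bot_iff]
      intro x hx
      have h2 := h1 hx
      rw [Matrix.SpecialLinearGroup.mem_center_iff] at h2
      obtain ⟨c, hc, hcx⟩ := h2
      have h3 : x ^ 2 = 1 := by
        apply Subtype.ext
        change (x : Matrix (Fin 2) (Fin 2) F) ^ 2 = 1
        have hc' : c ^ 2 = 1 := by simpa using hc
        rw [← hcx, ← map_pow, hc', map_one]
      obtain ⟨k, hk⟩ := isPGroup_pow hR hx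
      have h4 : Nat.gcd 2 (p ^ k) = 1 :=
        Nat.Coprime.pow_right _ ((Nat.coprime_primes Nat.prime_two hp.out).mpr (Ne.symm hp2))
      have h7 : orderOf x ∣ Nat.gcd 2 (p ^ k) := Nat.dvd_gcd (orderOf_dvd_of_pow_eq_one h3)
        (orderOf_dvd_of_pow_eq_one hk)
      rw [h4, Nat.dvd_one, orderOf_eq_one_iff] at h7
      exact h7
    · exfalso
      have h2 : IsPGroup p (Matrix.SpecialLinearGroup (Fin 2) F) := by
        have : IsPGroup p (⊤ : Subgroup (Matrix.SpecialLinearGroup (Fin 2) F)) := h1 ▸ hR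
        exact this.of_equiv Subgroup.topEquiv
      obtain ⟨k, hk⟩ := IsPGroup.iff_card.mp h2
      rw [Cfsg.Agent.ClassicalGeometry.PSL2Basic.card_SL2] at hk
      have h3 : Odd (p ^ k) := (hp.out.odd_of_ne_two hp2).pow
      rw [← hk, Nat.odd_mul] at h3
      obtain ⟨h4, h5⟩ := h3
      have h6 : Odd (Fintype.card F ^ 2) := h4.pow
      have h7 : Even (Fintype.card F ^ 2 - 1) := Nat.Odd.sub_odd h6 odd_one
      exact (Nat.not_even_iff_odd.mpr h5) h7
  · have h1 := normal_le_sylow R hR (upperUnipSylowSL F p)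
    let w : Matrix.SpecialLinearGroup (Fin 2) F := ⟨!![0, 1; -1, 0], by simp⟩
    have h2 := normal_le_sylow R hR (w • upperUnipSylowSL F p)
    have h3 : upperUnipSylowSL F p ≠ w • upperUnipSylowSL F p := by
      intro h4
      have h5 := (smul_upperUnipSylowSL_eq_self_iff p).mp h4.symm
      simp [w] at h5
    rw [eq_bot_iff, ← sylow_inf_eq_bot_SL p _ _ h3]
    exact le_inf h1 h2

/-- **A subgroup `SL₂(q)` of order divisible by `p` is everything.** -/
theorem NB.sl_range {G : Type*} [Group G] [Finite G] {p : ℕ} [hp : Fact p.Prime] (h : NB p G) (hp2 : p ≠ 2)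
    (hF : 3 < Fintype.card F ∨ CharP F p) (φ : Matrix.SpecialLinearGroup (Fin 2) F →* G)
    (hφ : Function.Injective φ) (hd : p ∣ Fintype.card F * (Fintype.card F ^ 2 - 1)) : φ.range = ⊤ := by
  by_contra hne
  refine h.not_dvd_of_core hne ?_ ?_
  · intro R hRK hKR hRp
    have h1 : (R.comap φ).Normal := by
      refine ⟨fun x hx g => ?_⟩
      rw [mem_comap] at hx ⊢
      rw [map_mul, map_mul, map_inv]
      exact (mem_normalizer_iff.mp (hKR ⟨g, rfl⟩) _).mp hx
    have h2 : R.comap φ = ⊥ := normal_bot hp2 hF _ (hRp.comap_of_injective φ hφ)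
    rw [eq_bot_iff]
    intro x hx
    obtain ⟨y, rfl⟩ := hRK hx
    have h3 : y ∈ R.comap φ := hx
    rw [h2, mem_bot] at h3
    rw [h3, map_one]
    exact mem_bot.mpr rfl
  · rwa [← Nat.card_congr (MonoidHom.ofInjective hφ).toEquiv, Cfsg.Agent.ClassicalGeometry.PSL2Basic.card_SL2]

omit [Fintype F] in
theorem center_sq {x : Matrix.SpecialLinearGroup (Fin 2) F}
    (hx : x ∈ center (Matrix.SpecialLinearGroup (Fin 2) F)) : x ^ 2 = 1 := by
  rw [Matrix.SpecialLinearGroup.mem_center_iff] at hx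
  obtain ⟨c, hc, hcx⟩ := hx
  apply Subtype.ext
  change (x : Matrix (Fin 2) (Fin 2) F) ^ 2 = 1
  have hc' : c ^ 2 = 1 := by simpa using hc
  rw [← hcx, ← map_pow, hc', map_one]

/-- **A subgroup `(P)SL₂(q)` in characteristic `p` is everything.** -/
theorem NB.sl_range' {G : Type*} [Group G] [Finite G] {p : ℕ} [hp : Fact p.Prime] (h : NB p G) (hp2 : p ≠ 2)
    [hF : CharP F p] (φ : Matrix.SpecialLinearGroup (Fin 2) F →* G)
    (hφ : φ.ker ≤ center (Matrix.SpecialLinearGroup (Fin 2) F)) : φ.range = ⊤ := by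
  by_contra hne
  -- the images of two Sylow subgroups
  let w : Matrix.SpecialLinearGroup (Fin 2) F := ⟨!![0, 1; -1, 0], by simp⟩
  have h3 : upperUnipSylowSL F p ≠ w • upperUnipSylowSL F p := by
    intro h4
    have h5 := (smul_upperUnipSylowSL_eq_self_iff p).mp h4.symm
    simp [w] at h5
  have hx : (u (1 : F)) ^ p = 1 := by
    have h4 : ∀ n : ℕ, (u (1 : F)) ^ n = u (n : F) := by
      intro n
      induction n with
      | zero => rw [pow_zero, Nat.cast_zero, u_zero]
      | succ n ih => rw [pow_succ, ih, ← u_add, Nat.cast_succ]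
    rw [h4, CharP.cast_eq_zero, u_zero]
  obtain ⟨R, hRK, hKR, hRp, hxR⟩ := h _ hne (φ (u 1)) ⟨_, rfl⟩ (by rw [← map_pow, hx, map_one])
  have hsub : ∀ P : Sylow p (Matrix.SpecialLinearGroup (Fin 2) F), R ≤ (P : Subgroup _).map φ := by
    intro P
    let R' : Subgroup φ.range := R.subgroupOf φ.range
    have hR'n : R'.Normal := by
      refine ⟨fun r hr g => ?_⟩
      rw [mem_subgroupOf] at hr ⊢
      exact (mem_normalizer_iff.mp (hKR g.2) _).mp hr
    have hR'p : IsPGroup p R' := hRp.comap_of_injective φ.range.subtype φ.range.subtype_injective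
    have h5 := normal_le_sylow R' hR'p (P.mapSurjective φ.rangeRestrict_surjective)
    intro x hx
    obtain ⟨y, rfl⟩ := hRK hx
    have h6 : (⟨φ y, ⟨y, rfl⟩⟩ : φ.range) ∈ R' := by rw [mem_subgroupOf]; exact hx
    obtain ⟨z, hz, hzy⟩ := h5 h6
    exact ⟨z, hz, congrArg Subtype.val hzy⟩
  obtain ⟨a, ha, hax⟩ := hsub (upperUnipSylowSL F p) hxR
  obtain ⟨b, hb, hbx⟩ := hsub (w • upperUnipSylowSL F p) hxR
  have hz : b⁻¹ * a ∈ center (Matrix.SpecialLinearGroup (Fin 2) F) := by
    apply hφ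
    rw [MonoidHom.mem_ker, map_mul, map_inv, hax, hbx, inv_mul_cancel]
  have hz2 := center_sq hz
  have hzc : ∀ g, g * (b⁻¹ * a) = (b⁻¹ * a) * g := mem_center_iff.mp hz
  have hab : a ^ 2 = b ^ 2 := by
    have h7 : a = b * (b⁻¹ * a) := by group
    have h8 : Commute b (b⁻¹ * a) := hzc b
    conv_lhs => rw [h7, h8.mul_pow, hz2, mul_one]
  have ha2 : a ^ 2 = 1 := by
    have h9 : a ^ 2 ∈ ((upperUnipSylowSL F p : Subgroup (Matrix.SpecialLinearGroup (Fin 2) F)) ⊓
        ((w • upperUnipSylowSL F p : Sylow p (Matrix.SpecialLinearGroup (Fin 2) F)) : Subgroup _)) := by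
      refine ⟨pow_mem ha 2, ?_⟩
      rw [hab]
      exact pow_mem hb 2
    rw [sylow_inf_eq_bot_SL p _ _ h3] at h9
    exact mem_bot.mp h9
  have ha1 : a = 1 := by
    obtain ⟨k, hk⟩ := isPGroup_pow (upperUnipSylowSL F p).isPGroup' ha
    have h4 : Nat.gcd 2 (p ^ k) = 1 :=
      Nat.Coprime.pow_right _ ((Nat.coprime_primes Nat.prime_two hp.out).mpr (Ne.symm hp2))
    have h7 : orderOf a ∣ Nat.gcd 2 (p ^ k) := Nat.dvd_gcd (orderOf_dvd_of_pow_eq_one ha2)
      (orderOf_dvd_of_pow_eq_one hk)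
    rw [h4, Nat.dvd_one, orderOf_eq_one_iff] at h7
    exact h7
  rw [ha1, map_one] at hax
  have h10 : u (1 : F) ∈ φ.ker := hax.symm
  have h11 := mem_center_iff.mp (hφ h10) (l 1)
  have h12 : (!![1, 0; 1, 1] * !![1, 1; 0, 1] : Matrix (Fin 2) (Fin 2) F) = !![1, 1; 0, 1] * !![1, 0; 1, 1] :=
    congrArg Subtype.val h11
  rw [Matrix.mul_fin_two, Matrix.mul_fin_two] at h12
  have h13 := congrFun (congrFun h12 1) 0
  have h14 := congrFun (congrFun h12 0) 0
  simp at h13 h14

end Cfsg.Agent.H469
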