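import Mathlib
import Cfsg.Agent.H469.FixVec
import Cfsg.Agent.OddHalf.LongSL.Orth
import Cfsg.Agent.Nodes.WittInst
import Cfsg.Agent.ClassicalGeometry.PSL2Basic

/-!
# `NBr p G` for the orthogonal groups, `p` not the characteristic
-/

set_option autoImplicit false

namespace Cfsg.Agent.H469.RowOrth

open QuadraticMap Module
open Cfsg.Agent.LieClassical Cfsg.Agent.LieClassical.OrthCore Cfsg.Agent.LieClassical.OrthTrans
open Cfsg.Agent.LieClassical.OrthSimple Cfsg.Agent.LieClassical.OrthFinite Cfsg.Agent.LieClassical.OrthForms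
open Cfsg.Agent.TitsThree.Siegel Cfsg.Agent.TitsThree.SiegelGen Cfsg.Agent.TitsThree.WittFrame
open Cfsg.Agent.TitsThree.KSideO Cfsg.Agent.TitsThree.WBridge
open Cfsg.Agent.OddHalf.LongSL.OrthPhi Cfsg.Agent.OddHalf.LongSL.Orth

section General

variable {ι : Type} [Fintype ι] [DecidableEq ι] {F : Type} [Field F] [Fintype F] {Q : QuadraticForm F (ι → F)}

theorem e_iso : ∀ g ∈ E Q, (HO Q).IsIso g := by
  intro g hg v w
  exact polar_map (E_le_O hg) v w

theorem nbr_e (hG : Good Q) {p : ℕ} (hp : p.Prime) (h : NBr p (Cfsg.POmega F ⇑Q)) : NBr p (E Q) :=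
  (h.of_quot _ le_rfl hp).of_hom (toOmega hG).toMonoidHom (toOmega hG).injective

theorem self_zero {u : ι → F} (hu : Q u = 0) : (HO Q).h u u = 0 := polar_self_of_sing hu

theorem exists_sie {u w : ι → F} (hu : Q u = 0) (huu : (HO Q).h u u = 0) (hw : (HO Q).h u w = 0) :
    ∃ c, (HO Q).sie u w c huu hw ∈ E Q := by
  obtain ⟨c, hc⟩ := (PO Q).ex w
  exact ⟨c, sie_mem huu hw ((sing_iff Q).mpr hu) hc⟩

theorem nd (hG : Good Q) {u : ι → F} (hu : u ≠ 0) : ∃ v, (HO Q).h v u ≠ 0 := by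
  obtain ⟨v, hv⟩ := hG.nondeg.exists_polar_ne hu
  exact ⟨v, by rw [HO_h, polar_comm]; exact hv⟩

theorem finite_gl : Finite ((ι → F) ≃ₗ[F] (ι → F)) :=
  Finite.of_injective (fun g : (ι → F) ≃ₗ[F] (ι → F) => (g : (ι → F) → (ι → F))) DFunLike.coe_injective

theorem row (hG : Good Q) {m : ℕ} (W : WFrame (PO Q) m) (hm : 3 ≤ m) {p : ℕ} [hp : Fact p.Prime] (hp2 : p ≠ 2)
    (hpF : ¬ p ∣ Fintype.card F) (h : NBr p (Cfsg.POmega F ⇑Q)) (P : Subgroup (Cfsg.POmega F ⇑Q))
    (hP : IsPGroup p P) : IsCyclic P := by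
  have hfin := finite_gl (F := F) (ι := ι)
  have hE := nbr_e hG hp.out h
  obtain ⟨r, hr, hrc, hrp⟩ := FixVec.exists_char (F := F) (p := p) (by rwa [Nat.card_eq_fintype_card])
  -- `p ∤ q ^ 2 - 1`
  have hd : ¬ p ∣ Fintype.card F ^ 2 - 1 := by
    intro hd
    obtain ⟨g, hg⟩ := exists_prime_orderOf_dvd_card' (G := Matrix.SpecialLinearGroup (Fin 2) F) p (by
      rw [Cfsg.Agent.ClassicalGeometry.PSL2Basic.card_SL2]; exact hd.mul_left _)
    let x : Fin m × Bool := (⟨0, by omega⟩, true)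
    let y : Fin m × Bool := (⟨1, by omega⟩, true)
    let z : Fin m × Bool := (⟨2, by omega⟩, true)
    have hxy : x.1 ≠ y.1 := by simp [x, y]
    have hzx : z.1 ≠ x.1 := by simp [x, z]
    have hzy : z.1 ≠ y.1 := by simp [y, z]
    have hz : Q ((toFrame W).b z) = 0 := (sing_iff Q).1 (b_sing W z)
    have hz0 : (toFrame W).b z ≠ 0 := Cfsg.Agent.Nodes.WittRGD.b_ne_zero _
    have hgp : g ^ p = 1 := by rw [← hg]; exact pow_orderOf_eq_one g
    have ha1 : Phi (toFrame W) hxy g = 1 := by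
      refine FixVec.eq_one_of_fix (H := HO Q) (E Q) e_iso hr hp.out hrp (Phi_mem W hxy g) ?_ ?_
        (u := (toFrame W).b z) (self_zero hz) (Phi_of_ne _ hxy g hzx hzy) (nd hG hz0)
        (fun w hw => exists_sie hz _ hw)
      · rw [← map_pow, hgp, map_one]
      · intro R hRI hRr hRa
        exact NBr.normal' (I := E Q) (fun g hg n hn =>
          Subgroup.mul_mem _ (Subgroup.mul_mem _ hg hn) (Subgroup.inv_mem _ hg)) hp.out hE hr hrp
          (Phi_mem W hxy g) (by rw [← map_pow, hgp, map_one]) hRI hRr hRa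
    have h4 : g = 1 := Phi_injective (toFrame W) hxy (by rw [map_one]; exact ha1)
    rw [h4, orderOf_one] at hg
    exact hp.out.one_lt.ne hg
  refine isCyclic_of_surj (toPOmega hG) (toPOmega_surjective hG) ?_ P hP
  intro R hR
  rcases FixVec.main (H := HO Q) (I := E Q) (N := E Q) e_iso le_rfl
    (fun g hg n hn => Subgroup.mul_mem _ (Subgroup.mul_mem _ hg hn) (Subgroup.inv_mem _ hg)) hp2
    (by rwa [Nat.card_eq_fintype_card]) hE (fun u => Q u = 0) (fun u hu => self_zero hu)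
    (fun u _ hu => nd hG hu) (fun u w hu _ huu hw => exists_sie hu huu hw) (k := 2) (by
      intro W hW
      by_contra hcon
      obtain ⟨w, hw, hw0, hQw⟩ := exists_sing_mem (Q := Q) W (by omega)
      exact hw0 (hW w hw hQw)) R hR with h3 | ⟨d, h4, h5, h6⟩
  · exact h3
  · exfalso
    apply hd
    rw [Nat.card_eq_fintype_card] at h6
    refine h6.trans (Nat.pow_sub_one_dvd_pow_sub_one _ ?_)
    interval_cases d
    · exact one_dvd _
    · exact dvd_rfl

end General

section Rows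

variable {F : Type} [Field F] [Fintype F] {p : ℕ} [hp : Fact p.Prime]

theorem row_odd {m : ℕ} (hm : 3 ≤ m) (ho : Odd (Fintype.card F)) (hp2 : p ≠ 2) (hpF : ¬ p ∣ Fintype.card F)
    (h : NBr p (Cfsg.POmega F (Cfsg.quadFormOdd m F))) (P : Subgroup (Cfsg.POmega F (Cfsg.quadFormOdd m F)))
    (hP : IsPGroup p P) : IsCyclic P := by
  have h2 : (2 : F) ≠ 0 := Cfsg.Agent.OddHalf.LongSL.two_ne_of_odd ho
  revert h P
  rw [← coe_oddForm]
  intro h P hP
  have hG : Good (oddForm m F) := by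
    apply good_of_finite (nondeg_oddForm m F h2)
    rw [Module.finrank_fintype_fun_eq_card, Fintype.card_sum, Fintype.card_sum, Fintype.card_fin,
      Fintype.card_unit]
    omega
  exact row hG (wodd m F) hm hp2 hpF h P hP

theorem row_plus {m : ℕ} (hm : 3 ≤ m) (hp2 : p ≠ 2) (hpF : ¬ p ∣ Fintype.card F)
    (h : NBr p (Cfsg.POmega F (Cfsg.quadFormPlus m F))) (P : Subgroup (Cfsg.POmega F (Cfsg.quadFormPlus m F)))
    (hP : IsPGroup p P) : IsCyclic P := by
  revert h P
  rw [← coe_plusForm]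
  intro h P hP
  have hG : Good (plusForm m F) := by
    apply good_of_finite (nondeg_plusForm m F)
    rw [Module.finrank_fintype_fun_eq_card, Fintype.card_sum, Fintype.card_fin]
    omega
  exact row hG (Cfsg.Agent.Nodes.WittInst.wplus m F) hm hp2 hpF h P hP

theorem row_minus {m : ℕ} (hm : 3 ≤ m) (a b : F)
    (hab : ∀ z₁ z₂ : F, z₁ ^ 2 + a * z₁ * z₂ + b * z₂ ^ 2 = 0 → z₁ = 0 ∧ z₂ = 0)
    (hp2 : p ≠ 2) (hpF : ¬ p ∣ Fintype.card F)
    (h : NBr p (Cfsg.POmega F (Cfsg.quadFormMinus m F a b)))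
    (P : Subgroup (Cfsg.POmega F (Cfsg.quadFormMinus m F a b))) (hP : IsPGroup p P) : IsCyclic P := by
  revert h P
  rw [← coe_minusForm]
  intro h P hP
  have hG : Good (minusForm m F a b) := by
    apply good_of_finite (nondeg_minusForm m F a b hab)
    rw [Module.finrank_fintype_fun_eq_card, Fintype.card_sum, Fintype.card_sum, Fintype.card_fin,
      Fintype.card_fin]
    omega
  exact row hG (wminus m F a b hab) hm hp2 hpF h P hP

end Rows

end Cfsg.Agent.H469.RowOrth
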