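import Mathlib
import Cfsg.Agent.H469.FixVec
import Cfsg.Agent.TitsThree.SpIdent

/-!
# `NBr p G` for `PSp_{2m}(F)`, `p` not the characteristic
-/

set_option autoImplicit false

namespace Cfsg.Agent.H469.RowPSp

open Cfsg.Agent.TitsThree.Siegel Cfsg.Agent.TitsThree.SpIdent Cfsg.Agent.ClassicalGeometry.SympBasic Module

theorem nd {m : ℕ} {F : Type*} [Field F] {u : Fin m ⊕ Fin m → F} (hu : u ≠ 0) : ∃ v, sympForm m F v u ≠ 0 := by
  by_contra hcon
  push Not at hcon
  apply hu
  funext j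
  rcases j with i | i
  · have := hcon (Pi.single (Sum.inr i) 1)
    rwa [sympForm_single_inr_left] at this
  · have := hcon (Pi.single (Sum.inl i) 1)
    rw [sympForm_single_inl_left, neg_eq_zero] at this
    exact this

theorem row_cross {F : Type} [Field F] [Fintype F] {m : ℕ} {p : ℕ} [hp : Fact p.Prime] (hp2 : p ≠ 2)
    (hpF : ¬ p ∣ Fintype.card F) (h : NBr p (Cfsg.PSp m F)) (P : Subgroup (Cfsg.PSp m F)) (hP : IsPGroup p P) :
    IsCyclic P := by
  have h1 : NBr p (Matrix.symplecticGroup (Fin m) F) := h.of_quot _ le_rfl hp.out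
  have h2 : NBr p (isos (form m F)) := h1.of_hom toSp toSp_injective
  have : Finite ((Fin m ⊕ Fin m → F) ≃ₗ[F] (Fin m ⊕ Fin m → F)) :=
    Finite.of_injective (fun g : (Fin m ⊕ Fin m → F) ≃ₗ[F] (Fin m ⊕ Fin m → F) =>
      (g : (Fin m ⊕ Fin m → F) → (Fin m ⊕ Fin m → F))) DFunLike.coe_injective
  refine isCyclic_of_surj toPSp toPSp_surjective ?_ P hP
  intro Q hQ
  rcases FixVec.main (H := form m F) (I := isos (form m F)) (N := isos (form m F)) (fun g hg => hg) le_rfl
    (fun g hg n hn => Subgroup.mul_mem _ (Subgroup.mul_mem _ hg hn) (Subgroup.inv_mem _ hg)) hp2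
    (by rwa [Nat.card_eq_fintype_card]) h2 (fun _ => True) (fun u _ => sympForm_self u) (fun u _ hu => nd hu)
    (fun u w _ _ hu hw => ⟨0, sie_form_mem u w 0 hw⟩) (k := 0) (by
      intro W hW
      have : W = ⊥ := (Submodule.eq_bot_iff W).mpr fun u hu => hW u hu trivial
      rw [this, finrank_bot]) Q hQ with h3 | ⟨d, h4, h5, -⟩
  · exact h3
  · omega

end Cfsg.Agent.H469.RowPSp
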