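import Mathlib
import Cfsg.Agent.H469.RowClass
import Cfsg.Agent.OddRank.SzTits
import Cfsg.Agent.S1156
import Cfsg.Agent.S1157

/-!
# `NB p G` and the Suzuki and small Ree groups

`row_suzuki`, `row_ree`.
-/

set_option autoImplicit false

namespace Cfsg.Agent.H469.RowRank

open Subgroup Cfsg

variable {G : Type*} [Group G] [Finite G] [IsSimpleGroup G] {p : ℕ} [hp : Fact p.Prime]

omit [IsSimpleGroup G] in
theorem row_suzuki (hp2 : p ≠ 2) (hG : Lie.IsoSuzuki G) (P : Sylow p G) : IsCyclic (P : Subgroup G) :=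
  OddRank.SzTits.isCyclic_of_isPGroup hG hp2 P P.isPGroup'

theorem row_ree (hna : ∃ a b : G, a * b ≠ b * a) (hp2 : p ≠ 2) (h : NB p G) (hG : Lie.IsoRee G) (P : Sylow p G) :
    IsCyclic (P : Subgroup G) := by
  obtain ⟨K, _, _, m, hm, hK, ⟨e⟩⟩ := hG
  rcases Nat.lt_or_ge 3 p with h3 | h3
  · exact sylow_congr e (Cfsg.Agent.S1156.result hm hK h3) P
  · have hp3 : p = 3 := by
      have := hp.out.two_le
      omega
    subst hp3
    exfalso
    have hK3 : CharP K 3 := Cfsg.Agent.S1157.charP_three hK
    obtain ⟨a, haH, ha1, ha2⟩ := Cfsg.Agent.S1157.exists_involution hK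
    obtain ⟨⟨f⟩, -⟩ := Cfsg.Agent.S1152.result hK a haH ha1 ha2
    have hfin : Finite ↥(Lie.twistedG2 K (3 ^ m)) := Finite.of_equiv _ e.toEquiv
    let φ : Matrix.SpecialLinearGroup (Fin 2) K →* ↥(Lie.twistedG2 K (3 ^ m)) :=
      (centralizer {a}).subtype.comp (f.symm.toMonoidHom.comp ((MonoidHom.inr _ _).comp (QuotientGroup.mk' _)))
    have hker : φ.ker ≤ center (Matrix.SpecialLinearGroup (Fin 2) K) := by
      intro x hx
      have h1 : (f.symm.toMonoidHom.comp ((MonoidHom.inr (Multiplicative (ZMod 2))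
          (Matrix.ProjectiveSpecialLinearGroup (Fin 2) K)).comp (QuotientGroup.mk' _))) x = 1 :=
        (centralizer {a}).subtype_injective hx
      have h2 : (MonoidHom.inr (Multiplicative (ZMod 2))
          (Matrix.ProjectiveSpecialLinearGroup (Fin 2) K)) (QuotientGroup.mk' _ x) = 1 := by
        apply f.symm.injective
        rw [map_one]
        exact h1
      have h3 : QuotientGroup.mk' (center (Matrix.SpecialLinearGroup (Fin 2) K)) x = 1 :=
        congrArg Prod.snd h2
      rwa [← MonoidHom.mem_ker, QuotientGroup.ker_mk'] at h3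
    have hr := NB.sl_range' (h.congr e) hp2 φ hker
    have hc : centralizer {a} = (⊤ : Subgroup ↥(Lie.twistedG2 K (3 ^ m))) := by
      rw [eq_top_iff, ← hr]
      rintro _ ⟨x, rfl⟩
      exact SetLike.coe_mem _
    have hac : e.symm a ∈ center G := by
      rw [mem_center_iff]
      intro g
      apply e.injective
      rw [map_mul, map_mul, e.apply_symm_apply]
      have h4 : e g ∈ centralizer ({a} : Set ↥(Lie.twistedG2 K (3 ^ m))) := by rw [hc]; exact mem_top _
      exact mem_centralizer_singleton_iff.mp h4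
    obtain ⟨x, y, hxy⟩ := hna
    rcases (inferInstance : (center G).Normal).eq_bot_or_eq_top with h5 | h5
    · rw [h5, mem_bot] at hac
      apply ha1
      have := congrArg e hac
      rwa [e.apply_symm_apply, map_one] at this
    · have hx : x ∈ center G := by rw [h5]; exact mem_top _
      exact hxy ((mem_center_iff.mp hx y).symm)

end Cfsg.Agent.H469.RowRank
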