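import Cfsg.Agent.H469.RowClass
import Cfsg.Agent.H469.Exc.P3
import Cfsg.Agent.KFacts.RgdLieCharP

/-!
# `NB p G` and the exceptional groups

* `NB.no_local` : `NB p G`, `HasFilt r G`, `r ≠ p` : no element of order `p` commutes with a nontrivial `r`-element;
* `row_chev`, `row_tw` : the exceptional Chevalley groups, `²E₆(q)`, `³D₄(q)`.
-/

set_option autoImplicit false

namespace Cfsg.Agent.H469

open Subgroup Cfsg Cfsg.Agent.KFacts Cfsg.Agent.KFacts.RgdFilt Cfsg.Agent.OddHalf.LongSL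

/-- **No element of order `p` commutes with a nontrivial `r`-element.** -/
theorem NB.no_local {G : Type*} [Group G] [Finite G] [IsSimpleGroup G] (hna : ∃ a b : G, a * b ≠ b * a) {p r : ℕ}
    [hp : Fact p.Prime] [hr : Fact r.Prime] (h : NB p G) (hrp : r ≠ p) (hF : HasFilt r G) {x u : G}
    (hx : x ^ p = 1) (hx1 : x ≠ 1) (hu1 : u ≠ 1) {j : ℕ} (hu : u ^ r ^ j = 1) (hxu : x * u = u * x) : False := by
  have hK : IsPGroup r (zpowers u) := by
    rintro ⟨_, i, rfl⟩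
    refine ⟨j, Subtype.ext ?_⟩
    change (u ^ i) ^ r ^ j = 1
    rw [← zpow_natCast, ← zpow_mul, mul_comm, zpow_mul, zpow_natCast, hu, one_zpow]
  have hK1 : zpowers u ≠ ⊥ := by rwa [Ne, zpowers_eq_bot]
  obtain ⟨V, P, hV, -, hN, hP, -, hC⟩ := hF.exists_par hna hK hK1
  have hxN : x ∈ normalizer ((zpowers u : Subgroup G) : Set G) := by
    have hc : Commute x u := hxu
    rw [mem_normalizer_iff]
    intro g
    constructor
    · rintro ⟨i, rfl⟩
      refine ⟨i, ?_⟩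
      change u ^ i = x * u ^ i * x⁻¹
      rw [(hc.zpow_right i).eq, mul_inv_cancel_right]
    · rintro ⟨i, hi⟩
      refine ⟨i, ?_⟩
      change u ^ i = x * g * x⁻¹ at hi
      change u ^ i = g
      have h1 : g = x⁻¹ * u ^ i * x := by rw [hi]; group
      have h2 : x⁻¹ * u ^ i = u ^ i * x⁻¹ := ((hc.inv_left).zpow_right i).eq
      rw [h1, h2, inv_mul_cancel_right]
  have hxV : x ∈ normalizer (V : Set G) := by rw [← hP]; exact hN hxN
  have h1 := h.comm_prime hna hrp hx hV fun v hv => (mem_normalizer_iff.1 hxV v).1 hv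
  have h2 : x ∈ centralizer (V : Set G) := by
    rw [mem_centralizer_iff]
    intro v hv
    have h3 := h1 v hv
    rw [mul_inv_eq_iff_eq_mul] at h3
    exact h3.symm
  obtain ⟨k, hk⟩ := isPGroup_pow hV (hC h2)
  have h4 : orderOf x ∣ Nat.gcd p (r ^ k) := Nat.dvd_gcd (orderOf_dvd_of_pow_eq_one hx) (orderOf_dvd_of_pow_eq_one hk)
  have h5 : Nat.gcd p (r ^ k) = 1 := Nat.Coprime.pow_right _ ((Nat.coprime_primes hp.out hr.out).2 (Ne.symm hrp))
  rw [h5, Nat.dvd_one, orderOf_eq_one_iff] at h4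
  exact hx1 h4

namespace RowExc

variable {G : Type*} [Group G] [Finite G] [IsSimpleGroup G] {p : ℕ} [hp : Fact p.Prime]

theorem cross (hna : ∃ a b : G, a * b ≠ b * a) (hp2 : p ≠ 2) (h : NB p G) {r : ℕ} [hr : Fact r.Prime] (hpr : p ≠ r)
    (hF : HasFilt r G) (h3 : Exc.P3 r G) (P : Sylow p G) : IsCyclic (P : Subgroup G) := by
  by_contra hnc
  obtain ⟨E, -, hE, hcomm, hexp⟩ := exists_sq hp2 P.isPGroup' hnc
  obtain ⟨c, hc, hc1, u, hu1, ⟨j, hj⟩, hcu⟩ := h3.exists_mem hp.out hp2 hpr hE hcomm hexp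
  exact h.no_local hna (Ne.symm hpr) hF (hexp c hc) hc1 hu1 hj hcu

theorem row_chev (hna : ∃ a b : G, a * b ≠ b * a) (hp2 : p ≠ 2) (h : NB p G) {r : ℕ} [hr : Fact r.Prime]
    (hG : IsExceptionalChevChar r G) (P : Sylow p G) : IsCyclic (P : Subgroup G) := by
  by_cases hpr : p = r
  · subst hpr
    exfalso
    obtain ⟨F, _, _, hFp, hF⟩ := hG
    have hd : p ∣ Fintype.card F := by
      obtain ⟨k, -, hk⟩ := FiniteField.card F p
      rw [hk]
      exact dvd_pow_self p k.ne_zero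
    have ho := RowClass.odd_of_dvd hp2 hd
    rcases hF with ⟨-, ⟨e⟩⟩ | ⟨⟨e⟩⟩ | ⟨⟨e⟩⟩ | ⟨⟨e⟩⟩ | ⟨⟨e⟩⟩
    · exact RowClass.not_own hna h hp2 ((Chev.hasLong_G2 F ho).of_equiv e.symm) hd
    · exact RowClass.not_own hna h hp2 ((Chev.hasLong_F4 F ho).of_equiv e.symm) hd
    · exact RowClass.not_own hna h hp2 ((Chev.hasLong_E6 F ho).of_equiv e.symm) hd
    · exact RowClass.not_own hna h hp2 ((Chev.hasLong_E7 F ho).of_equiv e.symm) hd
    · exact RowClass.not_own hna h hp2 ((Chev.hasLong_E8 F ho).of_equiv e.symm) hd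
  · exact cross hna hp2 h hpr (RgdFiltChev.hasFilt_of_exceptional hG) (Exc.p3_of_chev hG) P

theorem row_tw (hna : ∃ a b : G, a * b ≠ b * a) (hp2 : p ≠ 2) (h : NB p G) {r : ℕ} [hr : Fact r.Prime]
    (hG : IsTwistedE6D4Char r G) (P : Sylow p G) : IsCyclic (P : Subgroup G) := by
  by_cases hpr : p = r
  · subst hpr
    exfalso
    obtain ⟨F, _, _, hFp, q, hq, hF⟩ := hG
    have hd : p ∣ Fintype.card F := by
      obtain ⟨k, -, hk⟩ := FiniteField.card F p
      rw [hk]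
      exact dvd_pow_self p k.ne_zero
    have ho := RowClass.odd_of_dvd hp2 hd
    rcases hF with ⟨hK, ⟨e⟩⟩ | ⟨hK, ⟨e⟩⟩
    · have hoq : Odd q := (Nat.odd_pow_iff two_ne_zero).1 (hK ▸ ho)
      have hpq : p ∣ q := hp.out.dvd_of_dvd_pow (hK ▸ hd)
      exact RowClass.not_own hna h hp2 ((Tw.hasLong_E6 hq hK hoq).of_equiv e.symm) hpq
    · have hoq : Odd q := (Nat.odd_pow_iff (by norm_num)).1 (hK ▸ ho)
      have hpq : p ∣ q := hp.out.dvd_of_dvd_pow (hK ▸ hd)
      exact RowClass.not_own hna h hp2 ((Tw.hasLong_D4 hq hK hoq).of_equiv e.symm) hpq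
  · exact cross hna hp2 h hpr (RgdFiltTwAll.hasFilt_of_twisted hG) (Exc.p3_of_tw hG) P

end RowExc

end Cfsg.Agent.H469
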