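import Mathlib
import Cfsg.Prelude.Def_LocalStructure
import Cfsg.Agent.H469.MinClosed

/-!
The group of order `p * m` of affine maps of a field with `m ≡ 1 (mod p)` elements.
-/

set_option autoImplicit false

namespace Cfsg.Agent.H469.Affine

open Subgroup Cfsg

/-- Multiplication by units, as automorphisms of the additive group. -/
def unitAut (F : Type*) [Field F] : Fˣ →* MulAut (Multiplicative F) where
  toFun u :=
    { toFun := fun a => Multiplicative.ofAdd ((u : F) * Multiplicative.toAdd a)
      invFun := fun a => Multiplicative.ofAdd (((u⁻¹ : Fˣ) : F) * Multiplicative.toAdd a)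
      left_inv := by
        intro a
        apply Multiplicative.toAdd.injective
        change ((u⁻¹ : Fˣ) : F) * ((u : F) * Multiplicative.toAdd a) = Multiplicative.toAdd a
        rw [← mul_assoc, Units.inv_mul, one_mul]
      right_inv := by
        intro a
        apply Multiplicative.toAdd.injective
        change (u : F) * (((u⁻¹ : Fˣ) : F) * Multiplicative.toAdd a) = Multiplicative.toAdd a
        rw [← mul_assoc, Units.mul_inv, one_mul]
      map_mul' := by
        intro a b
        apply Multiplicative.toAdd.injective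
        change (u : F) * (Multiplicative.toAdd a + Multiplicative.toAdd b) = _
        rw [mul_add]
        rfl }
  map_one' := by
    ext a
    change Multiplicative.ofAdd (((1 : Fˣ) : F) * Multiplicative.toAdd a) = a
    rw [Units.val_one, one_mul]
    rfl
  map_mul' := by
    intro u v
    ext a
    change Multiplicative.ofAdd (((u * v : Fˣ) : F) * Multiplicative.toAdd a) =
      Multiplicative.ofAdd ((u : F) * ((v : F) * Multiplicative.toAdd a))
    rw [Units.val_mul, mul_assoc]

theorem exists_group {p : ℕ} [hp : Fact p.Prime] {m : ℕ} (hm : IsPrimePow m) (hm1 : m % p = 1) :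
    ∃ (H : Type) (_ : Group H) (_ : Finite H), Nat.card H = p * m ∧ ¬ Cfsg.IsPClosed p H := by
  rw [isPrimePow_nat_iff] at hm
  obtain ⟨q, e, hq, he, rfl⟩ := hm
  have hqF : Fact q.Prime := ⟨hq⟩
  let F : Type := GaloisField q e
  have hFfin : Finite F := inferInstance
  have hFcard : Nat.card F = q ^ e := GaloisField.card q e he.ne'
  have hpd : p ∣ Nat.card Fˣ := by
    have : Fintype F := Fintype.ofFinite F
    rw [Nat.card_units, hFcard]
    exact (Nat.modEq_iff_dvd' (Nat.one_le_iff_ne_zero.mpr (pow_pos hq.pos e).ne')).mp (by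
      rw [Nat.ModEq, hm1, Nat.mod_eq_of_lt hp.out.one_lt])
  obtain ⟨ζ, hζ⟩ := exists_prime_orderOf_dvd_card' p hpd
  let C : Subgroup Fˣ := zpowers ζ
  have hCcard : Nat.card C = p := by rw [Nat.card_zpowers, hζ]
  let φ : C →* MulAut (Multiplicative F) := (unitAut F).comp C.subtype
  have hqp : q ≠ p := by
    rintro rfl
    have : q ^ e % q = 0 := Nat.mod_eq_zero_of_dvd (dvd_pow_self q he.ne')
    rw [this] at hm1
    exact zero_ne_one hm1
  refine ⟨Multiplicative F ⋊[φ] C, inferInstance, ?_, ?_, ?_⟩
  · have : Nat.card (Multiplicative F ⋊[φ] C) ≠ 0 := by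
      rw [SemidirectProduct.card, hCcard, show Nat.card (Multiplicative F) = Nat.card F from rfl, hFcard]
      exact (Nat.mul_pos (pow_pos hq.pos e) hp.out.pos).ne'
    exact Nat.finite_of_card_ne_zero this
  · rw [SemidirectProduct.card, hCcard, show Nat.card (Multiplicative F) = Nat.card F from rfl,
      hFcard, mul_comm]
  · intro hcl
    have hfin : Finite (Multiplicative F ⋊[φ] C) := by
      have : Nat.card (Multiplicative F ⋊[φ] C) ≠ 0 := by
        rw [SemidirectProduct.card, hCcard, show Nat.card (Multiplicative F) = Nat.card F from rfl, hFcard]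
        exact (Nat.mul_pos (pow_pos hq.pos e) hp.out.pos).ne'
      exact Nat.finite_of_card_ne_zero this
    obtain ⟨S, hS, hmax⟩ := MinClosed.exists_of_isPClosed hcl
    let z : C := ⟨ζ, mem_zpowers ζ⟩
    let g : Multiplicative F ⋊[φ] C := SemidirectProduct.inr z
    have hgp : g ^ p = 1 := by
      rw [← map_pow]
      have : z ^ p = 1 := by
        apply Subtype.ext
        change ζ ^ p = 1
        rw [← hζ]
        exact pow_orderOf_eq_one ζ
      rw [this, map_one]
    have hg : g ∈ (S : Subgroup (Multiplicative F ⋊[φ] C)) := by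
      have h1 : IsPGroup p (zpowers g) := by
        rintro ⟨x, k, rfl⟩
        refine ⟨1, Subtype.ext ?_⟩
        change (g ^ k) ^ p ^ 1 = 1
        rw [pow_one, ← zpow_natCast, ← zpow_mul, mul_comm, zpow_mul, zpow_natCast, hgp, one_zpow]
      exact hmax _ h1 (mem_zpowers g)
    let a : Multiplicative F := Multiplicative.ofAdd 1
    let b : Multiplicative F ⋊[φ] C := SemidirectProduct.inl a
    have h2 : b * g⁻¹ * b⁻¹ ∈ (S : Subgroup (Multiplicative F ⋊[φ] C)) := hS.conj_mem _ (inv_mem hg) b
    have h3 : g * (b * g⁻¹ * b⁻¹) ∈ (S : Subgroup (Multiplicative F ⋊[φ] C)) := mul_mem hg h2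
    have h4 : g * (b * g⁻¹ * b⁻¹) = SemidirectProduct.inl (φ z a * a⁻¹) := by
      rw [map_mul, SemidirectProduct.inl_aut, map_inv, map_inv]
      simp only [g, b, mul_assoc]
    rw [h4] at h3
    obtain ⟨k, hk⟩ := S.isPGroup' ⟨_, h3⟩
    have h5 : (φ z a * a⁻¹) ^ p ^ k = 1 := by
      have := congrArg Subtype.val hk
      change (SemidirectProduct.inl (φ z a * a⁻¹) : Multiplicative F ⋊[φ] C) ^ p ^ k = 1 at this
      rw [← map_pow] at this
      exact SemidirectProduct.inl_injective (by rw [this, map_one])
    have h6 : (φ z a * a⁻¹) ^ q = 1 := by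
      apply Multiplicative.toAdd.injective
      have : CharP F q := inferInstance
      change q • Multiplicative.toAdd (φ z a * a⁻¹) = (0 : F)
      rw [nsmul_eq_mul, CharP.cast_eq_zero, zero_mul]
    have h7 : orderOf (φ z a * a⁻¹) = 1 := by
      have hd1 := orderOf_dvd_of_pow_eq_one h5
      have hd2 := orderOf_dvd_of_pow_eq_one h6
      have hcop : Nat.Coprime (p ^ k) q := Nat.Coprime.pow_left k ((Nat.coprime_primes hp.out hq).mpr hqp.symm)
      exact Nat.dvd_one.mp (hcop ▸ Nat.dvd_gcd hd1 hd2)
    rw [orderOf_eq_one_iff, mul_inv_eq_one] at h7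
    have h8 : (ζ : F) * 1 = 1 := congrArg Multiplicative.toAdd h7
    rw [mul_one] at h8
    have h9 : ζ = 1 := Units.ext h8
    rw [h9, orderOf_one] at hζ
    exact hp.out.one_lt.ne hζ

end Cfsg.Agent.H469.Affine
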