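import Cfsg.Prelude.Def_Classification2
import Cfsg.Agent.H469.RowAlt
import Cfsg.Agent.H469.RowClass
import Cfsg.Agent.H469.RowRank
import Cfsg.Agent.H469.RowExc
import Cfsg.Agent.H469.RowTwF
import Cfsg.Agent.H468.RowSpor

/-!
# `NB p G`, `G` a known simple group, `p` odd : the Sylow `p`-subgroups are cyclic

* `isCyclic_of_known` : the theorem;
* `two_of_omega` : the case `p = 2`.
-/

set_option autoImplicit false

namespace Cfsg.Agent.H469

open Subgroup Cfsg

theorem exists_charP (F : Type) [Field F] [Fintype F] : ∃ r : ℕ, Fact r.Prime ∧ CharP F r := by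
  obtain ⟨r, hr⟩ := CharP.exists F
  exact ⟨r, ⟨CharP.char_is_prime F r⟩, hr⟩

theorem NB.toH468 {p : ℕ} {G : Type*} [Group G] (h : NB p G) : H468.NB p G := by
  intro K hK x hx hxp
  obtain ⟨R, hRK, hKR, hR, hxR⟩ := h K hK x hx hxp
  exact ⟨R, hRK, fun k hk t ht => (mem_normalizer_iff.1 (hKR hk) t).1 ht, hR, hxR⟩

theorem NB.ofH468 {p : ℕ} {G : Type*} [Group G] (h : H468.NB p G) : NB p G := by
  intro K hK x hx hxp
  obtain ⟨R, hRK, hKR, hR, hxR⟩ := h K hK x hx hxp
  refine ⟨R, hRK, fun k hk => ?_, hR, hxR⟩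
  rw [mem_normalizer_iff]
  intro g
  refine ⟨fun hg => hKR k hk g hg, fun hg => ?_⟩
  have h1 := hKR k⁻¹ (K.inv_mem hk) _ hg
  have h2 : k⁻¹ * (k * g * k⁻¹) * k⁻¹⁻¹ = g := by group
  rwa [h2] at h1

/-- **The main theorem.** -/
theorem isCyclic_of_known {G : Type*} [Group G] [Finite G] [IsSimpleGroup G] (hna : ∃ a b : G, a * b ≠ b * a)
    (hG : IsKnownSimple' G) {p : ℕ} [hp : Fact p.Prime] (hp2 : p ≠ 2) (h : NB p G) (P : Sylow p G) :
    IsCyclic (P : Subgroup G) := by
  rcases hG with hG | hG | hG | hG | hG | hG | hG | hG | hG | hG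
  · exfalso
    have hc : Nat.card G = Nat.card G := rfl
    obtain ⟨a, b, hab⟩ := hna
    have : IsCyclic G := by
      have h1 : (Nat.card G).Prime := hG
      have : Fact (Nat.card G).Prime := ⟨h1⟩
      exact isCyclic_of_prime_card (p := Nat.card G) rfl
    obtain ⟨g, hg⟩ := this.exists_generator
    obtain ⟨i, rfl⟩ := hg a
    obtain ⟨j, rfl⟩ := hg b
    exact hab (((Commute.refl g).zpow_zpow i j).eq)
  · exact row_alt hp2 h hG P
  · exact RowClass.row_psl hna hp2 h hG P
  · exact RowClass.row_psp hna hp2 h hG P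
  · exact RowClass.row_psu hna hp2 h hG P
  · exact RowClass.row_omega_odd hna hp2 h hG P
  · exact RowClass.row_omega_plus hna hp2 h hG P
  · exact RowClass.row_omega_minus hna hp2 h hG P
  · rcases hG with hG | hG | hG | hG | hG | hG | hG | hG | hG | hG | hG
    · obtain ⟨F, hF1, hF2, hF3, he⟩ := hG
      obtain ⟨r, hr, hrF⟩ := exists_charP F
      exact RowExc.row_chev hna hp2 h (r := r) ⟨F, hF1, hF2, hrF, Or.inl ⟨hF3, he⟩⟩ P
    · obtain ⟨F, hF1, hF2, he⟩ := hG
      obtain ⟨r, hr, hrF⟩ := exists_charP F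
      exact RowExc.row_chev hna hp2 h (r := r) ⟨F, hF1, hF2, hrF, Or.inr (Or.inl he)⟩ P
    · obtain ⟨F, hF1, hF2, he⟩ := hG
      obtain ⟨r, hr, hrF⟩ := exists_charP F
      exact RowExc.row_chev hna hp2 h (r := r) ⟨F, hF1, hF2, hrF, Or.inr (Or.inr (Or.inl he))⟩ P
    · obtain ⟨F, hF1, hF2, he⟩ := hG
      obtain ⟨r, hr, hrF⟩ := exists_charP F
      exact RowExc.row_chev hna hp2 h (r := r) ⟨F, hF1, hF2, hrF, Or.inr (Or.inr (Or.inr (Or.inl he)))⟩ P
    · obtain ⟨F, hF1, hF2, he⟩ := hG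
      obtain ⟨r, hr, hrF⟩ := exists_charP F
      exact RowExc.row_chev hna hp2 h (r := r) ⟨F, hF1, hF2, hrF, Or.inr (Or.inr (Or.inr (Or.inr he)))⟩ P
    · obtain ⟨F, hF1, hF2, q, hq, hF3, he⟩ := hG
      obtain ⟨r, hr, hrF⟩ := exists_charP F
      exact RowExc.row_tw hna hp2 h (r := r) ⟨F, hF1, hF2, hrF, q, hq, Or.inl ⟨hF3, he⟩⟩ P
    · obtain ⟨F, hF1, hF2, q, hq, hF3, he⟩ := hG
      obtain ⟨r, hr, hrF⟩ := exists_charP F
      exact RowExc.row_tw hna hp2 h (r := r) ⟨F, hF1, hF2, hrF, q, hq, Or.inr ⟨hF3, he⟩⟩ P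
    · exact RowRank.row_suzuki hp2 hG P
    · exact RowRank.row_ree hna hp2 h hG P
    · exact RowTwF.row_twF hna hp2 h hG P
    · exact H468.tits hp2 h.toH468 hG P
  · exact H468.spor hp2 h.toH468 hG P

/-- The case `p = 2`. -/
theorem two_of_omega {G : Type*} [Group G] [IsSimpleGroup G] (hna : ∃ a b : G, a * b ≠ b * a)
    (hsub : ∀ K : Subgroup G, K ≠ ⊤ → (∃ H : Subgroup ↥K, (H : Set ↥K) = {g : ↥K | g ^ 2 = 1})) :
    ∃ H : Subgroup G, (H : Set G) = {g : G | g ^ 2 = 1} := by
  have key : ∀ s t : G, s ^ 2 = 1 → t ^ 2 = 1 → (s * t) ^ 2 = 1 := by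
    intro s t hs ht
    have hs' : s⁻¹ = s := by
      rw [inv_eq_iff_mul_eq_one, ← pow_two, hs]
    have ht' : t⁻¹ = t := by
      rw [inv_eq_iff_mul_eq_one, ← pow_two, ht]
    have hK : closure ({s, t} : Set G) ≠ ⊤ := by
      intro hcon
      -- the subgroup generated by `s * t` is normal
      have h1 : closure ({s, t} : Set G) ≤ normalizer ((zpowers (s * t) : Subgroup G) : Set G) := by
        rw [closure_le]
        have h4 : ∀ y : G, y * (s * t) * y⁻¹ = (s * t)⁻¹ → y ∈ normalizer ((zpowers (s * t) : Subgroup G) : Set G) := by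
          intro y hy
          rw [mem_normalizer_iff]
          intro g
          constructor
          · rintro ⟨i, rfl⟩
            refine ⟨-i, ?_⟩
            change (s * t) ^ (-i) = y * (s * t) ^ i * y⁻¹
            rw [← conj_zpow, hy, inv_zpow, zpow_neg]
          · rintro ⟨i, hi⟩
            refine ⟨-i, ?_⟩
            change (s * t) ^ i = y * g * y⁻¹ at hi
            change (s * t) ^ (-i) = g
            have h5 : (s * t) ^ i = y * (s * t) ^ (-i) * y⁻¹ := by
              rw [← conj_zpow, hy, inv_zpow, zpow_neg, inv_inv]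
            have h6 : y * (s * t) ^ (-i) * y⁻¹ = y * g * y⁻¹ := by rw [← h5, hi]
            exact mul_left_cancel (mul_right_cancel h6)
        rintro y (rfl | hy)
        · apply h4
          calc y * (y * t) * y⁻¹ = (y * y) * t * y⁻¹ := by group
            _ = t⁻¹ * y⁻¹ := by rw [← pow_two, hs, one_mul, ht']
            _ = (y * t)⁻¹ := (mul_inv_rev y t).symm
        · rw [Set.mem_singleton_iff] at hy
          subst hy
          apply h4
          calc y * (s * y) * y⁻¹ = y * s := by group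
            _ = y⁻¹ * s⁻¹ := by rw [ht', hs']
            _ = (s * y)⁻¹ := (mul_inv_rev s y).symm
      have hN : (zpowers (s * t)).Normal := by
        rw [← normalizer_eq_top_iff, eq_top_iff, ← hcon]
        exact h1
      obtain ⟨a, b, hab⟩ := hna
      rcases hN.eq_bot_or_eq_top with h2 | h2
      · rw [zpowers_eq_bot] at h2
        have h3 : t = s := by
          rw [← hs', eq_inv_iff_mul_eq_one]
          calc t * s = s⁻¹ * (s * t) * s := by group
            _ = 1 := by rw [h2, mul_one, inv_mul_cancel]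
        rw [h3, Set.pair_eq_singleton, ← zpowers_eq_closure] at hcon
        obtain ⟨i, rfl⟩ : a ∈ zpowers s := by rw [hcon]; exact mem_top a
        obtain ⟨j, rfl⟩ : b ∈ zpowers s := by rw [hcon]; exact mem_top b
        exact hab (((Commute.refl s).zpow_zpow i j).eq)
      · obtain ⟨i, rfl⟩ : a ∈ zpowers (s * t) := by rw [h2]; exact mem_top a
        obtain ⟨j, rfl⟩ : b ∈ zpowers (s * t) := by rw [h2]; exact mem_top b
        exact hab (((Commute.refl (s * t)).zpow_zpow i j).eq)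
    obtain ⟨H, hH⟩ := hsub _ hK
    have hmem : ∀ y : closure ({s, t} : Set G), y ∈ H ↔ y ^ 2 = 1 := by
      intro y
      change y ∈ (H : Set _) ↔ _
      rw [hH]
      rfl
    have hsK : s ∈ closure ({s, t} : Set G) := subset_closure (by simp)
    have htK : t ∈ closure ({s, t} : Set G) := subset_closure (by simp)
    have h1 := H.mul_mem ((hmem ⟨s, hsK⟩).2 (Subtype.ext hs)) ((hmem ⟨t, htK⟩).2 (Subtype.ext ht))
    exact congrArg Subtype.val ((hmem _).1 h1)
  refine ⟨{ carrier := {g : G | g ^ 2 = 1}, mul_mem' := fun {a b} ha hb => key a b ha hb, one_mem' := one_pow 2, inv_mem' := fun {a} ha => ?_ }, rfl⟩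
  change a⁻¹ ^ 2 = 1
  have ha' : a ^ 2 = 1 := ha
  rw [inv_pow, ha', inv_one]

end Cfsg.Agent.H469
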